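import Cfsg.Agent.H404.Avg.Ext
import Cfsg.Agent.H934.OutB

/-!
# `Good p S`: criteria (helper404, for S4831)

* `Good.congr`, `OutIdx.congr` : transport along isomorphisms;
* `good_of` : `p ∣ α(1)`, `|Out S| < (c + 1) ^ 2`, `(c + 1) p ≤ 2 α(1)`;
* `good_of_im` : if `p` divides some degree, `|Out S| < χ(1)` for all `χ ≠ 1` and `|Out S| ≤ 15` or `Out S`
  has a cyclic subgroup of index at most three, then `Good p S`.
-/

set_option autoImplicit false
set_option linter.unusedSectionVars false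

namespace Cfsg.Agent.H404.Avg

open Cfsg
open Cfsg.Agent.Characters.Core

universe u v

/-- `|Out S| < χ(1)` for all nonlinear irreducible characters. -/
def OutLin (S : Type u) [Group S] : Prop :=
  ∀ χ : IrrCharacter S, charDegree (χ : S → ℂ) ≠ 1 → Nat.card (Cfsg.Out S) < charDegree (χ : S → ℂ)

section congr

variable {S : Type u} {S' : Type v} [Group S] [Group S']

theorem conj_range_map (e : S ≃* S') : (MulAut.conj : S →* MulAut S).range.map
    (MulAut.congr e).toMonoidHom = (MulAut.conj : S' →* MulAut S').range := by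
  ext x
  constructor
  · rintro ⟨_, ⟨s, rfl⟩, rfl⟩
    refine ⟨e s, ?_⟩
    ext y
    show e s * y * (e s)⁻¹ = e (s * e.symm y * s⁻¹)
    rw [map_mul, map_mul, map_inv, e.apply_symm_apply]
  · rintro ⟨s, rfl⟩
    refine ⟨MulAut.conj (e.symm s), ⟨_, rfl⟩, ?_⟩
    ext y
    show e (e.symm s * e.symm y * (e.symm s)⁻¹) = s * y * s⁻¹
    rw [map_mul, map_mul, map_inv, e.apply_symm_apply, e.apply_symm_apply]

theorem OutIdx.congr {c : ℕ} (h : OutIdx S c) (e : S ≃* S') : OutIdx S' c := by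
  obtain ⟨g, hg⟩ := h
  refine ⟨MulAut.congr e g, ?_⟩
  have h1 : (MulAut.conj : S' →* MulAut S').range ⊔ Subgroup.zpowers (MulAut.congr e g) =
      ((MulAut.conj : S →* MulAut S).range ⊔ Subgroup.zpowers g).map
        (MulAut.congr e).toMonoidHom := by
    rw [Subgroup.map_sup, conj_range_map, MonoidHom.map_zpowers]
    rfl
  rw [h1, Subgroup.index_map_of_bijective (f := (MulAut.congr e).toMonoidHom)
    (MulAut.congr e).bijective]
  exact hg

theorem EBd.congr {α : S → ℂ} {c : ℕ} (h : EBd α c) (e : S ≃* S') : EBd (α ∘ e.symm) c := by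
  intro B hB hinv
  let F : MulAut S ≃* MulAut S' := MulAut.congr e
  have hF : ∀ (a : MulAut S) (y : S'), F a y = e (a (e.symm y)) := fun a y => rfl
  let B' : Subgroup (MulAut S) := B.comap F.toMonoidHom
  have hB' : (MulAut.conj : S →* MulAut S).range ≤ B' := by
    rintro _ ⟨s, rfl⟩
    show F (MulAut.conj s) ∈ B
    apply hB
    rw [← conj_range_map e]
    exact ⟨_, ⟨s, rfl⟩, rfl⟩
  obtain ⟨β, k, hβ, hk0, hk, hval⟩ := h B' hB' (by
    intro b hb s
    have h1 := hinv (F b) hb (e s)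
    rw [hF, e.symm_apply_apply] at h1
    show α (b s) = α s
    have h2 : α (e.symm (e (b s))) = α (e.symm (e s)) := h1
    rwa [e.symm_apply_apply, e.symm_apply_apply] at h2)
  let G : B ≃* B' :=
    { toFun := fun b => ⟨F.symm b, by
        show F (F.symm b) ∈ B
        rw [F.apply_symm_apply]
        exact b.2⟩
      invFun := fun b => ⟨F b, b.2⟩
      left_inv := fun b => Subtype.ext (F.apply_symm_apply _)
      right_inv := fun b => Subtype.ext (F.symm_apply_apply _)
      map_mul' := fun a b => Subtype.ext (map_mul F.symm _ _) }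
  refine ⟨β ∘ G, k, isIrr_comp (G : B →* B') G.surjective hβ, hk0, hk, fun s => ?_⟩
  have h1 := hval (e.symm s)
  have h2 : G ⟨MulAut.conj s, hB ⟨s, rfl⟩⟩ = ⟨MulAut.conj (e.symm s), hB' ⟨e.symm s, rfl⟩⟩ := by
    apply Subtype.ext
    show F.symm (MulAut.conj s) = MulAut.conj (e.symm s)
    rw [MulEquiv.symm_apply_eq]
    ext y
    show s * y * s⁻¹ = e (e.symm s * e.symm y * (e.symm s)⁻¹)
    rw [map_mul, map_mul, map_inv, e.apply_symm_apply, e.apply_symm_apply]
  show β (G _) = _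
  rw [h2, h1]
  rfl

theorem charDegree_congr (α : S → ℂ) (e : S ≃* S') : charDegree (α ∘ e.symm) = charDegree α := by
  unfold charDegree
  rw [Function.comp_apply, map_one]

theorem Good.congr {p : ℕ} (h : Good p S) (e : S ≃* S') : Good p S' := by
  obtain ⟨α, c, h1, h2, h3⟩ := h
  refine ⟨⟨(α : S → ℂ) ∘ e.symm, isIrr_comp (e.symm : S' →* S) e.symm.surjective α.2⟩, c, ?_,
    h2.congr e, ?_⟩
  · show p ∣ charDegree ((α : S → ℂ) ∘ e.symm)
    rwa [charDegree_congr]
  · show _ ≤ 2 * charDegree ((α : S → ℂ) ∘ e.symm)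
    rwa [charDegree_congr]

theorem OutLin.congr (h : OutLin S) (e : S ≃* S') : OutLin S' := by
  intro χ hχ
  have h1 : IsIrrCharacter S ((χ : S' → ℂ) ∘ e.symm.symm) :=
    isIrr_comp (e : S →* S') e.surjective χ.2
  have h2 := charDegree_congr (χ : S' → ℂ) e.symm
  have h3 := h ⟨_, h1⟩ (by rw [h2]; exact hχ)
  rwa [h2, Cfsg.Agent.H934.OutB.card_out_congr e] at h3

end congr

section simple

variable {S : Type u} [Group S] [Finite S] [IsSimpleGroup S]

theorem good_of (hna : ¬ IsMulCommutative S) {p : ℕ} (α : IrrCharacter S)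
    (hp : p ∣ charDegree (α : S → ℂ)) {c : ℕ} (hc : Nat.card (Cfsg.Out S) < (c + 1) ^ 2)
    (h : (c + 1) * p ≤ 2 * charDegree (α : S → ℂ)) : Good p S :=
  ⟨α, c, hp, ebd_of_sq hna α.2 hc, h⟩

theorem good_of_idx (hna : ¬ IsMulCommutative S) {p : ℕ} (α : IrrCharacter S)
    (hp : p ∣ charDegree (α : S → ℂ)) {c : ℕ} (hc : OutIdx S c)
    (h : (c + 1) * p ≤ 2 * charDegree (α : S → ℂ)) : Good p S :=
  ⟨α, c, hp, ebd_of_outIdx hna α.2 hc, h⟩

theorem good_of_im (hna : ¬ IsMulCommutative S) {p : ℕ} (hp : p.Prime)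
    (hIM : ∃ χ : IrrCharacter S, p ∣ charDegree (χ : S → ℂ)) (hOL : OutLin S)
    (h : OutIdx S 3 ∨ Nat.card (Cfsg.Out S) ≤ 15) : Good p S := by
  obtain ⟨α, hα⟩ := hIM
  have hα1 : charDegree (α : S → ℂ) ≠ 1 := by
    intro h1
    rw [h1] at hα
    exact hp.one_lt.not_ge (Nat.le_of_dvd one_pos hα)
  have hlt := hOL α hα1
  have hone : (α : S → ℂ) 1 = (charDegree (α : S → ℂ) : ℂ) :=
    Cfsg.Agent.Blocks.Basic.irr_one_eq_charDegree α.2
  by_cases h1 : charDegree (α : S → ℂ) = p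
  · refine ⟨α, 1, hα, ebd_of_coprime hna α.2 hone ?_, by rw [h1]⟩
    rw [h1]
    rw [h1] at hlt
    have h0 : 0 < Nat.card (Cfsg.Out S) := Nat.card_pos
    refine Nat.Coprime.symm ((Nat.Prime.coprime_iff_not_dvd hp).2 fun h2 => ?_)
    exact absurd (Nat.le_of_dvd h0 h2) (not_le.2 hlt)
  · obtain ⟨m, hm⟩ := hα
    have hm2 : 2 ≤ m := by
      rcases Nat.lt_or_ge m 2 with h2 | h2
      · exfalso
        interval_cases m
        · rw [hm] at hlt
          exact absurd hlt (by simp)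
        · exact h1 (by rw [hm, mul_one])
      · exact h2
    refine ⟨α, 3, ⟨m, hm⟩, ?_, ?_⟩
    · rcases h with h | h
      · exact ebd_of_outIdx hna α.2 h
      · exact ebd_of_sq hna α.2 (by omega)
    · rw [hm]
      nlinarith [hp.pos]

end simple

end Cfsg.Agent.H404.Avg
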