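import Cfsg.Agent.H404.Avg.Frame
import Cfsg.Agent.H404.Avg.Good
import Cfsg.Agent.H588.AcdMove
import Cfsg.Agent.H588.AcdExt
import Cfsg.Agent.H272.Gal3
import Cfsg.Agent.H954.OutLin

/-!
# The cases of the reduction of S4831, `p` odd (helper404)
-/

set_option autoImplicit false
set_option linter.unusedSectionVars false

namespace Cfsg.Agent.H404.Avg

open Cfsg
open scoped ComplexConjugate commutatorElement
open Cfsg.Agent.Characters.Core
open Cfsg.Agent.OddOrderCharacters.NormalInduced (conjFn)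
open Cfsg.Agent.OddOrderCharacters.IndRes (res)
open Cfsg.Agent.H612.MinNormal (cj mem_cj mem_normalizer_iff_cj)
open Cfsg.Agent.H685.Acd (eq_one_of_central charDegree_eq_one_of_ker exists_proj dvd_index
  exists_char_moved)
open Cfsg.Agent.H429.Reg

universe u v

/-- From the count to the bound. -/
theorem bound_of_count {G : Type u} [Group G] [Finite G] {A B p t e d : ℕ} (hd : p ∣ t * (e * d))
    (Q : IrrCharacter G → Prop)
    (hcount : Nat.card (G →* ℂˣ) ≤ t * e ^ 2 * Nat.card {χ : IrrCharacter G //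
      charDegree (χ : G → ℂ) = t * (e * d) ∧ Q χ})
    (hnum : (B - A) * (t * e ^ 2) + B ≤ A * (t * (e * d))) :
    (B - A) * Nat.card (G →* ℂˣ) ≤ Wt (fun d => A * d - B) p G := by
  refine le_trans ?_ (card_mul_le hd Q)
  set b := Nat.card {χ : IrrCharacter G // charDegree (χ : G → ℂ) = t * (e * d) ∧ Q χ}
  calc (B - A) * Nat.card (G →* ℂˣ) ≤ (B - A) * (t * e ^ 2 * b) := Nat.mul_le_mul_left _ hcount
    _ = b * ((B - A) * (t * e ^ 2)) := by ring
    _ ≤ b * (A * (t * (e * d)) - B) := Nat.mul_le_mul_left _ (by omega)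

/-- The characters of `G` from a character of a simple factor, `e ^ 2 |N_G(S) : T| ≤ |Out S|`. -/
theorem count_sq {G : Type u} [Group G] [Finite G] (M : Subgroup G) [hM : M.Normal]
    (hMG : M ≤ commutator G) {S : Subgroup G} [hsimple : IsSimpleGroup S]
    (hSna : ¬ IsMulCommutative S) (hSM : S ≤ M) (hMS : M ≤ S ⊔ Subgroup.centralizer (S : Set G))
    (hcj : ∀ g : G, cj g S = S ∨ cj g S ≤ Subgroup.centralizer (S : Set G)) (α : IrrCharacter S)
    (hα : charDegree (α : S → ℂ) ≠ 1) :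
    ∃ (T : Subgroup G) (e : ℕ) (Q : IrrCharacter G → Prop), M ≤ T ∧
      T ≤ Subgroup.normalizer (S : Set G) ∧
      (∀ t, t ∈ T ↔ ∃ h : t ∈ Subgroup.normalizer (S : Set G), ∀ s : S,
        (α : S → ℂ) ⟨t * s * t⁻¹, (Subgroup.mem_normalizer_iff.1 h s).1 s.2⟩ = (α : S → ℂ) s) ∧
      e ≠ 0 ∧ e ^ 2 * T.relIndex (Subgroup.normalizer (S : Set G)) ≤ Nat.card (Cfsg.Out S) ∧
      Nat.card (G →* ℂˣ) ≤ T.index * e ^ 2 * Nat.card {χ : IrrCharacter G //
        charDegree (χ : G → ℂ) = T.index * (e * charDegree (α : S → ℂ)) ∧ Q χ} := by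
  classical
  have := Fintype.ofFinite G
  have := Fintype.ofFinite M
  obtain ⟨π, hπ1, hπ2⟩ := exists_proj hMS (fun z hz => eq_one_of_central hSna hz)
  obtain ⟨T, hTN, e, hMT, hiff, hB, he0, he, hcount⟩ := nab_gen M hMG hSna hSM hcj π hπ1 hπ2 α hα
    (fun B e => e ^ 2 ≤ (MulAut.conj : S →* MulAut S).range.relIndex B)
    (fun B hB hinv => exists_over_sq hSna α B hB hinv)
  have hCT : Subgroup.centralizer (S : Set G) ≤ T := by
    intro g hg
    rw [Subgroup.mem_centralizer_iff] at hg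
    have h1 : ∀ s ∈ S, g * s * g⁻¹ = s := fun s hs => by rw [← hg s hs, mul_inv_cancel_right]
    have h2 : g ∈ Subgroup.normalizer (S : Set G) := by
      apply Subgroup.centralizer_le_normalizer
      rw [Subgroup.mem_centralizer_iff]
      exact hg
    refine (hiff g).2 ⟨h2, fun s => congrArg (α : S → ℂ) (Subtype.ext (h1 s s.2))⟩
  exact ⟨T, e, fun χ => classInner (res M χ) ((α : S → ℂ) ∘ π) ≠ 0, hMT, hTN, hiff, he0,
    sq_mul_relIndex_le hTN hCT hB he, hcount⟩

/-- A conjugate of an element of `P` does not centralize `S`. -/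
theorem exists_not_comm {G : Type u} [Group G] [Finite G] {p : ℕ} [hp : Fact p.Prime]
    (P : Sylow p G) {M : Subgroup G} [hM : M.Normal]
    (hmin : ∀ K : Subgroup G, K.Normal → K ≤ M → K = ⊥ ∨ K = M)
    (hC : Subgroup.centralizer (M : Set G) = ⊥) (hpG : p ∣ Nat.card G) {S : Subgroup G}
    (hSna : ¬ IsMulCommutative S) (hSM : S ≤ M) :
    ∃ x ∈ P, ∃ g : G, ∃ s ∈ S, (g * x * g⁻¹) * s ≠ s * (g * x * g⁻¹) := by
  by_contra hcon
  push Not at hcon
  have h1 : Subgroup.normalClosure (S : Set G) = M := by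
    rcases hmin (Subgroup.normalClosure (S : Set G)) inferInstance
      (Subgroup.normalClosure_le_normal hSM) with h | h
    · exfalso
      apply hSna
      have h2 : S ≤ ⊥ := by
        rw [← h]
        exact Subgroup.subset_normalClosure
      refine ⟨⟨fun a b => ?_⟩⟩
      have h3 : a = 1 := Subtype.ext (Subgroup.mem_bot.1 (h2 a.2))
      have h4 : b = 1 := Subtype.ext (Subgroup.mem_bot.1 (h2 b.2))
      rw [h3, h4]
    · exact h
  have h2 : M ≤ Subgroup.centralizer ((P : Subgroup G) : Set G) := by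
    rw [← h1]
    show Subgroup.closure (Group.conjugatesOfSet (S : Set G)) ≤ _
    rw [Subgroup.closure_le]
    intro z hz
    obtain ⟨s, hs, hsz⟩ := Group.mem_conjugatesOfSet_iff.1 hz
    obtain ⟨g, rfl⟩ := isConj_iff.1 hsz
    rw [SetLike.mem_coe, Subgroup.mem_centralizer_iff]
    intro x hx
    have h3 := hcon x hx g⁻¹ s hs
    calc x * (g * s * g⁻¹) = g * ((g⁻¹ * x * g⁻¹⁻¹) * s) * g⁻¹ := by group
      _ = g * (s * (g⁻¹ * x * g⁻¹⁻¹)) * g⁻¹ := by rw [h3]
      _ = g * s * g⁻¹ * x := by group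
  have h3 : (P : Subgroup G) ≤ Subgroup.centralizer (M : Set G) := by
    intro x hx
    rw [Subgroup.mem_centralizer_iff]
    intro m hm
    exact (Subgroup.mem_centralizer_iff.1 (h2 hm) x hx).symm
  rw [hC] at h3
  have h4 : (P : Subgroup G) = ⊥ := le_bot_iff.1 h3
  have h5 := P.card_eq_multiplicity
  rw [h4, Subgroup.card_bot] at h5
  have h6 : 0 < (Nat.card G).factorization p :=
    hp.out.factorization_pos_of_dvd Nat.card_pos.ne' hpG
  have h7 := Nat.one_lt_pow h6.ne' hp.out.one_lt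
  omega

/-- `p` does not divide `|M|` and a Sylow `p`-subgroup fixes all factors. -/
theorem case_fix {G : Type u} [Group G] [Finite G] {p : ℕ} [hp : Fact p.Prime]
    (hOL : ∀ (S : Type u) [Group S] [Finite S] [IsSimpleGroup S],
      ¬ IsMulCommutative S → Cfsg.Agent.H954.OutDeg.OL S) (P : Sylow p G) {M : Subgroup G}
    [hM : M.Normal] (hMG : M ≤ commutator G)
    (hmin : ∀ K : Subgroup G, K.Normal → K ≤ M → K = ⊥ ∨ K = M)
    (hC : Subgroup.centralizer (M : Set G) = ⊥) (hpG : p ∣ Nat.card G)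
    (hF : M ⊔ Subgroup.normalizer ((P : Subgroup G) : Set G) = ⊤) {S : Subgroup G}
    (hSM : S ≤ M) [hsimple : IsSimpleGroup S] (hSna : ¬ IsMulCommutative S)
    (hMS : M ≤ S ⊔ Subgroup.centralizer (S : Set G))
    (hcj : ∀ g : G, cj g S = S ∨ cj g S ≤ Subgroup.centralizer (S : Set G))
    (hpS : ¬ p ∣ Nat.card S)
    (hfix : ∀ x ∈ P, ∀ g : G, g * x * g⁻¹ ∈ Subgroup.normalizer (S : Set G)) :
    ∃ (t e d : ℕ) (Q : IrrCharacter G → Prop), p ∣ t ∧ t ≠ 0 ∧ e ≠ 0 ∧ e ^ 2 * p < d ∧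
      Nat.card (G →* ℂˣ) ≤ t * e ^ 2 * Nat.card {χ : IrrCharacter G //
        charDegree (χ : G → ℂ) = t * (e * d) ∧ Q χ} := by
  classical
  obtain ⟨x, hx, g, hxg⟩ := exists_not_comm P hmin hC hpG hSna hSM
  set y := g * x * g⁻¹ with hy
  have hyp : ∃ k : ℕ, y ^ p ^ k = 1 := by
    obtain ⟨k, hk⟩ := P.isPGroup' ⟨x, hx⟩
    refine ⟨k, ?_⟩
    have hk' : x ^ p ^ k = 1 := congrArg Subtype.val hk
    rw [hy, conj_pow, hk', mul_one, mul_inv_cancel]
  have hyN : y ∈ Subgroup.normalizer (S : Set G) := hfix x hx g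
  obtain ⟨α, s, hne⟩ := exists_char_moved hyN hyp hpS hxg
  have hα : charDegree (α : S → ℂ) ≠ 1 := by
    intro h1
    apply hne
    obtain ⟨f, hf⟩ := Cfsg.Agent.Characters.Linear.exists_hom_of_isIrrCharacter α.2 (by
      rw [Cfsg.Agent.Blocks.Basic.irr_one_eq_charDegree α.2, h1, Nat.cast_one])
    have htriv : ∀ z : S, f z = 1 := by
      rcases (inferInstance : f.ker.Normal).eq_bot_or_eq_top with h | h
      · exfalso
        apply hSna
        refine ⟨⟨fun a b => ?_⟩⟩
        have hinj : Function.Injective f := (MonoidHom.ker_eq_bot_iff f).1 h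
        apply hinj
        rw [map_mul, map_mul, mul_comm]
      · intro z
        exact MonoidHom.mem_ker.1 (h ▸ Subgroup.mem_top z)
    rw [hf]
    show ((f _ : ℂˣ) : ℂ) = f _
    rw [htriv, htriv]
  obtain ⟨T, e, Q, hMT, hTN, hiff, he0, hout, hcount⟩ := count_sq M hMG hSna hSM hMS hcj α hα
  have hyT : y ∉ T := by
    intro hyT
    obtain ⟨h, h'⟩ := (hiff y).1 hyT
    exact hne (h' s)
  have hpT : p ∣ T.index := dvd_index P hMT hF hx hyT
  have hN : ¬ p ∣ (Subgroup.normalizer (S : Set G)).index := by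
    have hPN : (P : Subgroup G) ≤ Subgroup.normalizer (S : Set G) := by
      intro z hz
      have h1 := hfix z hz 1
      rwa [one_mul, inv_one, mul_one] at h1
    intro h
    have h1 : (Subgroup.normalizer (S : Set G)).index ∣ (P : Subgroup G).index :=
      Subgroup.index_dvd_of_le hPN
    exact P.not_dvd_index' (by exact Subgroup.index_ne_zero_of_finite) (h.trans h1)
  have hrel : p ∣ T.relIndex (Subgroup.normalizer (S : Set G)) := by
    have h1 := Subgroup.relIndex_mul_index hTN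
    rw [← h1] at hpT
    exact (hp.out.dvd_mul.1 hpT).resolve_right hN
  have hrel0 : T.relIndex (Subgroup.normalizer (S : Set G)) ≠ 0 := by
    intro h
    have h1 := Subgroup.relIndex_mul_index hTN
    rw [h, zero_mul] at h1
    exact Subgroup.index_ne_zero_of_finite (H := T) h1.symm
  have hple := Nat.le_of_dvd (Nat.pos_of_ne_zero hrel0) hrel
  refine ⟨T.index, e, charDegree (α : S → ℂ), Q, hpT, Subgroup.index_ne_zero_of_finite, he0, ?_,
    hcount⟩
  calc e ^ 2 * p ≤ e ^ 2 * T.relIndex (Subgroup.normalizer (S : Set G)) :=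
        Nat.mul_le_mul_left _ hple
    _ ≤ Nat.card (Cfsg.Out S) := hout
    _ < charDegree (α : S → ℂ) := hOL S hSna α hα

end Cfsg.Agent.H404.Avg
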