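import Cfsg.Agent.H404.Avg.Cases

/-!
# The reduction of S4831, `p` odd, dividing the order of the simple factor (helper404)
-/

set_option autoImplicit false
set_option linter.unusedSectionVars false

namespace Cfsg.Agent.H404.Avg

open Cfsg
open scoped ComplexConjugate commutatorElement
open Cfsg.Agent.Characters.Core
open Cfsg.Agent.OddOrderCharacters.NormalInduced (conjFn)
open Cfsg.Agent.OddOrderCharacters.IndRes (res)
open Cfsg.Agent.OddOrderCharacters.PF9.CliffGen (degree_le_of_constituent)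
open Cfsg.Agent.H612.MinNormal (cj mem_cj mem_normalizer_iff_cj)
open Cfsg.Agent.H685.Acd (eq_one_of_central exists_proj)

universe u v

theorem num_good {p t e d : ℕ} (hp : 3 ≤ p) (ht : t ≠ 0) (he : e ≠ 0) (h : (e + 1) * p ≤ 2 * d) :
    (p + 1 - 2) * (t * e ^ 2) + (p + 1) ≤ 2 * (t * (e * d)) := by
  obtain ⟨q, rfl⟩ : ∃ q, p = q + 1 := ⟨p - 1, by omega⟩
  have h1 : q + 1 + 1 - 2 = q := by omega
  rw [h1]
  have hte : 1 ≤ t * e := Nat.one_le_iff_ne_zero.2 (Nat.mul_ne_zero ht he)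
  have h2 : t * e * ((e + 1) * (q + 1)) ≤ t * e * (2 * d) := Nat.mul_le_mul_left _ h
  have he1 : 1 ≤ e := Nat.one_le_iff_ne_zero.2 he
  have h3 : 1 ≤ t * e * e := Nat.mul_le_mul hte he1
  nlinarith [Nat.mul_le_mul_right q hte]

theorem num_three_dvd {t e d : ℕ} (ht : t ≠ 0) (he : e ≠ 0) (hed : e ^ 2 < d) (h3 : 3 ∣ d)
    (hbig : 6 ≤ d ∨ 2 ≤ t) : (7 - 3) * (t * e ^ 2) + 7 ≤ 3 * (t * (e * d)) := by
  have ht1 : 1 ≤ t := Nat.one_le_iff_ne_zero.2 ht
  have he1 : 1 ≤ e := Nat.one_le_iff_ne_zero.2 he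
  have hte : 1 ≤ t * e := Nat.mul_le_mul ht1 he1
  have h7 : 7 - 3 = 4 := rfl
  rw [h7]
  obtain ⟨u, hu⟩ : ∃ u, u = t * e := ⟨_, rfl⟩
  have e1 : 4 * (t * e ^ 2) = 4 * (u * e) := by rw [hu]; ring
  have e2 : 3 * (t * (e * d)) = 3 * (u * d) := by rw [hu]; ring
  rw [e1, e2]
  rw [← hu] at hte
  have hd1 : e ^ 2 + 1 ≤ d := hed
  rcases Nat.lt_or_ge e 2 with h | h
  · have he' : e = 1 := by omega
    subst he'
    rw [mul_one] at hu
    rw [mul_one]
    rcases hbig with h6 | h6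
    · nlinarith [Nat.mul_le_mul_left u h6]
    · have hd3 : 3 ≤ d := Nat.le_of_dvd (by omega) h3
      rw [← hu] at h6
      nlinarith [Nat.mul_le_mul_left u hd3]
  · rcases Nat.lt_or_ge e 3 with h' | h'
    · have he' : e = 2 := by omega
      subst he'
      have h6 : 6 ≤ d := by omega
      nlinarith [Nat.mul_le_mul_left u h6]
    · have h6 : 3 * e + 1 ≤ d := by nlinarith
      have h8 := Nat.mul_le_mul_left u h6
      nlinarith [Nat.mul_le_mul hte h']

theorem num_fix {A B p t e d : ℕ} (hAB : (p = 3 ∧ A = 3 ∧ B = 7) ∨ (5 ≤ p ∧ A = 2 ∧ B = p + 1))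
    (hpt : p ∣ t) (ht : t ≠ 0) (he : e ≠ 0) (hed : e ^ 2 * p < d) :
    (B - A) * (t * e ^ 2) + B ≤ A * (t * (e * d)) := by
  have htp : p ≤ t := Nat.le_of_dvd (Nat.pos_of_ne_zero ht) hpt
  have he1 : 1 ≤ e := Nat.one_le_iff_ne_zero.2 he
  have hd1 : e ^ 2 * p + 1 ≤ d := hed
  have h1 : t * e * (e ^ 2 * p + 1) ≤ t * e * d := Nat.mul_le_mul_left _ hd1
  have h2 : t * e ^ 2 * p ≤ t * e * (e ^ 2 * p) := by
    have : e ^ 2 ≤ e * e ^ 2 := Nat.le_mul_of_pos_left _ he1
    calc t * e ^ 2 * p ≤ t * (e * e ^ 2) * p :=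
          Nat.mul_le_mul_right _ (Nat.mul_le_mul_left _ this)
      _ = t * e * (e ^ 2 * p) := by ring
  have h3 : t ≤ t * e ^ 2 := Nat.le_mul_of_pos_right _ (Nat.pos_of_ne_zero (pow_ne_zero 2 he))
  have h3' : t ≤ t * e := Nat.le_mul_of_pos_right _ he1
  have h4 : p * p ≤ t * e ^ 2 * p := Nat.mul_le_mul_right _ (htp.trans h3)
  rcases hAB with ⟨rfl, rfl, rfl⟩ | ⟨h5, rfl, rfl⟩
  · have h7 : 7 - 3 = 4 := rfl
    rw [h7]
    nlinarith
  · obtain ⟨q, rfl⟩ : ∃ q, p = q + 1 := ⟨p - 1, by omega⟩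
    have h7 : q + 1 + 1 - 2 = q := by omega
    rw [h7]
    nlinarith

theorem num_move {A B p k D : ℕ} (hAB : (p = 3 ∧ A = 3 ∧ B = 7) ∨ (5 ≤ p ∧ A = 2 ∧ B = p + 1))
    (hpk : p ∣ k) (hk : k ≠ 0) (hD : 2 ^ (k - 1) ≤ D) :
    (B - A) * (k * 1 ^ 2) + B ≤ A * (k * (1 * D)) := by
  have hkp : p ≤ k := Nat.le_of_dvd (Nat.pos_of_ne_zero hk) hpk
  have hkD : k ≤ D := by
    have h1 : k - 1 < 2 ^ (k - 1) := Nat.lt_two_pow_self
    omega
  have h1 : k * k ≤ k * D := Nat.mul_le_mul_left _ hkD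
  rw [one_pow, mul_one, one_mul]
  rcases hAB with ⟨rfl, rfl, rfl⟩ | ⟨h5, rfl, rfl⟩
  · have h7 : 7 - 3 = 4 := rfl
    rw [h7]
    nlinarith
  · obtain ⟨q, rfl⟩ : ∃ q, p = q + 1 := ⟨p - 1, by omega⟩
    have h7 : q + 1 + 1 - 2 = q := by omega
    rw [h7]
    nlinarith

/-- `p ≥ 5` divides `|S|`. -/
theorem case_good {G : Type u} [Group G] [Finite G] {p : ℕ} (hp : p.Prime) (h3 : 3 ≤ p)
    {M : Subgroup G} [hM : M.Normal] (hMG : M ≤ commutator G) {S : Subgroup G}
    (hSM : S ≤ M) [hsimple : IsSimpleGroup S] (hSna : ¬ IsMulCommutative S)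
    (hMS : M ≤ S ⊔ Subgroup.centralizer (S : Set G))
    (hcj : ∀ g : G, cj g S = S ∨ cj g S ≤ Subgroup.centralizer (S : Set G)) (hgood : Good p S) :
    (p + 1 - 2) * Nat.card (G →* ℂˣ) ≤ Wt (fun d => 2 * d - (p + 1)) p G := by
  classical
  have := Fintype.ofFinite G
  have := Fintype.ofFinite M
  obtain ⟨α, c, hpα, hc, hle⟩ := hgood
  have hα : charDegree (α : S → ℂ) ≠ 1 := by
    intro h1
    rw [h1] at hpα
    exact hp.one_lt.not_ge (Nat.le_of_dvd one_pos hpα)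
  obtain ⟨π, hπ1, hπ2⟩ := exists_proj hMS (fun z hz => eq_one_of_central hSna hz)
  obtain ⟨T, hTN, e, hMT, hiff, hB, he0, he, hcount⟩ := nab_gen M hMG hSna hSM hcj π hπ1 hπ2 α hα
    (fun _ e => e ≤ c) (fun B hB hinv => hc B hB hinv)
  refine bound_of_count (Dvd.dvd.mul_left (Dvd.dvd.mul_left hpα _) _) _ hcount ?_
  exact num_good h3 Subgroup.index_ne_zero_of_finite he0
    (le_trans (Nat.mul_le_mul_right _ (Nat.succ_le_succ he)) hle)

/-- Two distinct irreducible characters of the same degree `d` of `M` are not both constituents of a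
character of degree `d`. -/
theorem not_both {M : Type u} [Group M] [Finite M] [Fintype M] {ρ θ θ' : M → ℂ} (hρ : IsCharacter M ρ)
    (hθ : IsIrrCharacter M θ) (hθ' : IsIrrCharacter M θ') (hne : θ ≠ θ') {d : ℕ}
    (hρ1 : ρ 1 = d) (h1 : θ 1 = d) (h1' : θ' 1 = d) (h : classInner ρ θ ≠ 0)
    (h' : classInner ρ θ' ≠ 0) : False := by
  have h2 := Cfsg.Agent.OddOrderCharacters.Clifford.isCharacter_sub_irr hρ hθ h
  have h3 : classInner (ρ - θ) θ' ≠ 0 := by
    rw [classInner_sub_left, classInner_irr_ne hθ hθ' hne, sub_zero]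
    exact h'
  have h4 : (ρ - θ) 1 = ((0 : ℕ) : ℂ) := by
    show ρ 1 - θ 1 = _
    rw [hρ1, h1, sub_self, Nat.cast_zero]
  have h5 := degree_le_of_constituent h2 hθ' h3 h4 h1'
  obtain ⟨n, hn0, hn⟩ := isIrr_apply_one hθ'
  rw [h1'] at hn
  have h6 : d = n := by exact_mod_cast hn
  omega

/-- `3` divides `|S|`. -/
theorem case_three {G : Type u} [Group G] [Finite G]
    (hOL : ∀ (S : Type u) [Group S] [Finite S] [IsSimpleGroup S],
      ¬ IsMulCommutative S → Cfsg.Agent.H954.OutDeg.OL S)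
    {M : Subgroup G} [hM : M.Normal] (hMG : M ≤ commutator G) {S : Subgroup G}
    (hSM : S ≤ M) [hsimple : IsSimpleGroup S] (hSna : ¬ IsMulCommutative S)
    (hMS : M ≤ S ⊔ Subgroup.centralizer (S : Set G))
    (hcj : ∀ g : G, cj g S = S ∨ cj g S ≤ Subgroup.centralizer (S : Set G))
    (hIM : ∃ α : IrrCharacter S, 3 ∣ charDegree (α : S → ℂ)) :
    (7 - 3) * Nat.card (G →* ℂˣ) ≤ Wt (fun d => 3 * d - 7) 3 G := by
  classical
  have := Fintype.ofFinite G
  have := Fintype.ofFinite M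
  obtain ⟨π, hπ1, hπ2⟩ := exists_proj hMS (fun z hz => eq_one_of_central hSna hz)
  have hπs : Function.Surjective π := fun s => ⟨⟨s, hSM s.2⟩, hπ2 _ _ rfl⟩
  -- the data for one character
  have key : ∀ α : IrrCharacter S, 3 ∣ charDegree (α : S → ℂ) → ∃ (T : Subgroup G) (e : ℕ),
      (∀ t, t ∈ T ↔ ∃ h : t ∈ Subgroup.normalizer (S : Set G), ∀ s : S,
        (α : S → ℂ) ⟨t * s * t⁻¹, (Subgroup.mem_normalizer_iff.1 h s).1 s.2⟩ = (α : S → ℂ) s) ∧
      e ≠ 0 ∧ e ^ 2 < charDegree (α : S → ℂ) ∧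
      Nat.card (G →* ℂˣ) ≤ T.index * e ^ 2 * Nat.card {χ : IrrCharacter G //
        charDegree (χ : G → ℂ) = T.index * (e * charDegree (α : S → ℂ)) ∧
        classInner (res M χ) ((α : S → ℂ) ∘ π) ≠ 0} := by
    intro α h3α
    have hα : charDegree (α : S → ℂ) ≠ 1 := by
      intro h1
      rw [h1] at h3α
      exact absurd (Nat.le_of_dvd one_pos h3α) (by norm_num)
    obtain ⟨T, hTN, e, hMT, hiff, hB, he0, he, hcount⟩ := nab_gen M hMG hSna hSM hcj π hπ1 hπ2 α hα
      (fun B e => e ^ 2 ≤ (MulAut.conj : S →* MulAut S).range.relIndex B)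
      (fun B hB hinv => exists_over_sq hSna α B hB hinv)
    refine ⟨T, e, hiff, he0, ?_, hcount⟩
    have h1 := Subgroup.relIndex_mul_index hB
    have h2 : 1 ≤ (img hTN).index := Nat.one_le_iff_ne_zero.2 Subgroup.index_ne_zero_of_finite
    calc e ^ 2 ≤ (MulAut.conj : S →* MulAut S).range.relIndex (img hTN) := he
      _ = (MulAut.conj : S →* MulAut S).range.relIndex (img hTN) * 1 := (mul_one _).symm
      _ ≤ (MulAut.conj : S →* MulAut S).range.relIndex (img hTN) * (img hTN).index :=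
        Nat.mul_le_mul_left _ h2
      _ = (MulAut.conj : S →* MulAut S).range.index := h1
      _ = Nat.card (Cfsg.Out S) := rfl
      _ < charDegree (α : S → ℂ) := hOL S hSna α hα
  obtain ⟨α, h3α⟩ := hIM
  obtain ⟨T, e, hiff, he0, he, hcount⟩ := key α h3α
  by_cases hbig : 6 ≤ charDegree (α : S → ℂ) ∨ 2 ≤ T.index
  · exact bound_of_count (Dvd.dvd.mul_left (Dvd.dvd.mul_left h3α _) _) _ hcount
      (num_three_dvd Subgroup.index_ne_zero_of_finite he0 he h3α hbig)
  · push Not at hbig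
    obtain ⟨hd6, ht2⟩ := hbig
    have hpos : 0 < charDegree (α : S → ℂ) := Cfsg.Agent.Blocks.Basic.charDegree_pos α.2
    have hd3 : charDegree (α : S → ℂ) = 3 := by omega
    have ht1 : T.index = 1 := by
      have : T.index ≠ 0 := Subgroup.index_ne_zero_of_finite
      omega
    have hTtop : T = ⊤ := Subgroup.index_eq_one.1 ht1
    have he1 : ∀ e : ℕ, e ≠ 0 → e ^ 2 < 3 → e = 1 := by
      intro e h0 h
      by_contra hne
      have h2 : 2 ≤ e := by omega
      nlinarith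
    have he' : e = 1 := he1 e he0 (by rw [hd3] at he; exact he)
    obtain ⟨α', hd3', hne, hval⟩ := Cfsg.Agent.H272.Gal3.exists_galois_three hSna α hd3
    obtain ⟨T', e₂, hiff', he0', he2, hcount'⟩ := key α' (by rw [hd3'])
    have hT'top : T' = ⊤ := by
      rw [eq_top_iff]
      intro g _
      obtain ⟨h, h'⟩ := (hiff g).1 (hTtop ▸ Subgroup.mem_top g)
      exact (hiff' g).2 ⟨h, fun s => hval _ _ (h' s)⟩
    have he2' : e₂ = 1 := he1 e₂ he0' (by rw [hd3'] at he2; exact he2)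
    rw [he', hd3, ht1] at hcount
    rw [he2', hd3', hT'top, Subgroup.index_top] at hcount'
    have hθ : IsIrrCharacter M ((α : S → ℂ) ∘ π) := isIrr_comp π hπs α.2
    have hθ' : IsIrrCharacter M ((α' : S → ℂ) ∘ π) := isIrr_comp π hπs α'.2
    have hθne : ((α : S → ℂ) ∘ π) ≠ ((α' : S → ℂ) ∘ π) := by
      intro h
      apply hne
      apply Subtype.ext
      funext s
      obtain ⟨m, rfl⟩ := hπs s
      exact (congrFun h m).symm
    set X := {χ : IrrCharacter G // charDegree (χ : G → ℂ) = 1 * (1 * 3) ∧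
        classInner (res M χ) ((α : S → ℂ) ∘ π) ≠ 0} with hX
    set X' := {χ : IrrCharacter G // charDegree (χ : G → ℂ) = 1 * (1 * 3) ∧
        classInner (res M χ) ((α' : S → ℂ) ∘ π) ≠ 0} with hX'
    have hfG : Finite (IrrCharacter G) := finite_irr
    have hsum : Nat.card X + Nat.card X' ≤ Nat.card {χ : IrrCharacter G //
        charDegree (χ : G → ℂ) = 3 ∧ True} := by
      rw [← Nat.card_sum]
      let F : X ⊕ X' → {χ : IrrCharacter G // charDegree (χ : G → ℂ) = 3 ∧ True} :=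
        Sum.elim (fun x => ⟨x.1, x.2.1, trivial⟩) (fun x => ⟨x.1, x.2.1, trivial⟩)
      refine Nat.card_le_card_of_injective F ?_
      have hdis : ∀ (x : X) (y : X'), x.1 ≠ y.1 := by
        intro x y hxy
        have h1 := x.2.2
        have h2 := y.2.2
        rw [← hxy] at h2
        have hch : IsCharacter M (res M (x.1 : G → ℂ)) :=
          Cfsg.Agent.OddOrderCharacters.IndRes.isCharacter_res M (isIrr_isCharacter x.1.2)
        refine not_both hch hθ hθ' hθne (d := 3) ?_ ?_ ?_ h1 h2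
        · show (x.1 : G → ℂ) 1 = _
          rw [Cfsg.Agent.Blocks.Basic.irr_one_eq_charDegree x.1.2, x.2.1]
        · show (α : S → ℂ) (π 1) = _
          rw [map_one, Cfsg.Agent.Blocks.Basic.irr_one_eq_charDegree α.2, hd3]
        · show (α' : S → ℂ) (π 1) = _
          rw [map_one, Cfsg.Agent.Blocks.Basic.irr_one_eq_charDegree α'.2, hd3']
      rintro (x | x) (y | y) h
      · exact congrArg Sum.inl (Subtype.ext (congrArg (fun z : {χ : IrrCharacter G //
          charDegree (χ : G → ℂ) = 3 ∧ True} => z.1) h))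
      · exact absurd (congrArg Subtype.val h) (hdis x y)
      · exact absurd (congrArg Subtype.val h).symm (hdis y x)
      · exact congrArg Sum.inr (Subtype.ext (congrArg (fun z : {χ : IrrCharacter G //
          charDegree (χ : G → ℂ) = 3 ∧ True} => z.1) h))
    have h9 := card_mul_le (w := fun d => 3 * d - 7) (p := 3) (d := 3) (G := G) (dvd_refl 3)
      (fun _ => True)
    have h10 : 3 * 3 - 7 = 2 := rfl
    have h11 : Nat.card {χ : IrrCharacter G // charDegree (χ : G → ℂ) = 3 ∧ True} * 2 ≤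
      Wt (fun d => 3 * d - 7) 3 G := h9
    rw [one_pow, one_mul, one_mul] at hcount hcount'
    have h12 : (7 - 3) * Nat.card (G →* ℂˣ) = 4 * Nat.card (G →* ℂˣ) := rfl
    rw [h12]
    omega

end Cfsg.Agent.H404.Avg
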