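import Cfsg.Agent.H685.AcdNab
import Cfsg.Agent.S0866
import Cfsg.Agent.S0886
import Cfsg.Agent.CharactersDeep.ExtUnique
import Cfsg.Agent.H235.ExtOut
import Cfsg.Prelude.Def_KGroupFacts

/-!
# Ramification of the characters of a simple group in its automorphism group (helper404, for S4831)

* `EBd α c`   : every group `Inn S ≤ B ≤ Aut S` which stabilises `α` has an irreducible character over
  `α` with ramification index `e ≤ c`;
* `OutIdx S c`: `Out S` has a cyclic subgroup of index at most `c`;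
* `Good p S`  : some `α` of degree divisible by `p` has `EBd α c` with `(c + 1) p ≤ 2 α(1)`.
-/

set_option autoImplicit false
set_option linter.unusedSectionVars false

namespace Cfsg.Agent.H404.Avg

open Cfsg
open scoped ComplexConjugate commutatorElement
open Cfsg.Agent.Characters.Core
open Cfsg.Agent.OddOrderCharacters.NormalInduced (conjFn)
open Cfsg.Agent.OddOrderCharacters.IndRes (res)
open Cfsg.Agent.OddOrderCharacters.PF9.CliffGen (resTo isCharacter_resTo res_of_invariant
  degree_le_of_constituent)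

universe u v

/-- Ramification bound: see the module docstring. -/
def EBd {S : Type u} [Group S] (α : S → ℂ) (c : ℕ) : Prop :=
  ∀ B : Subgroup (MulAut S), ∀ hB : (MulAut.conj : S →* MulAut S).range ≤ B,
    (∀ b ∈ B, ∀ s, α (b s) = α s) →
    ∃ (β : B → ℂ) (e : ℕ), IsIrrCharacter B β ∧ e ≠ 0 ∧ e ≤ c ∧
      ∀ s, β ⟨MulAut.conj s, hB ⟨s, rfl⟩⟩ = e * α s

/-- `Out S` has a cyclic subgroup of index at most `c`. -/
def OutIdx (S : Type u) [Group S] (c : ℕ) : Prop :=
  ∃ g : MulAut S, ((MulAut.conj : S →* MulAut S).range ⊔ Subgroup.zpowers g).index ≤ c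

/-- See the module docstring. -/
def Good (p : ℕ) (S : Type u) [Group S] : Prop :=
  ∃ (α : IrrCharacter S) (c : ℕ), p ∣ charDegree (α : S → ℂ) ∧ EBd (α : S → ℂ) c ∧
    (c + 1) * p ≤ 2 * charDegree (α : S → ℂ)

theorem EBd.mono {S : Type u} [Group S] {α : S → ℂ} {c d : ℕ} (h : EBd α c) (hcd : c ≤ d) :
    EBd α d := by
  intro B hB hinv
  obtain ⟨β, e, h1, h2, h3, h4⟩ := h B hB hinv
  exact ⟨β, e, h1, h2, h3.trans hcd, h4⟩

/-- An irreducible character over an invariant character which extends to `U`. -/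
theorem exists_over_of_ext {B : Type u} [Group B] [Fintype B] (N U : Subgroup B) [hN : N.Normal]
    [Fintype N] [Fintype U] (hNU : N ≤ U) {θ : N → ℂ} (hθ : IsIrrCharacter N θ)
    (hinv : ∀ b, conjFn N θ b = θ) {η : U → ℂ} (hη : IsIrrCharacter U η)
    (hηθ : ∀ n : N, η ⟨n, hNU n.2⟩ = θ n) :
    ∃ (β : B → ℂ) (e : ℕ), IsIrrCharacter B β ∧ e ≠ 0 ∧ e ≤ U.index ∧ ∀ n : N, β n = e * θ n := by
  classical
  have hind : IsCharacter B (indFun U η) :=
    Cfsg.Agent.OddOrderCharacters.IndRes.isCharacter_indFun U (isIrr_isCharacter hη)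
  have hone := Cfsg.Agent.OddOrderCharacters.IndRes.indFun_apply_one (H := U) η
  have hne : indFun U η ≠ 0 := by
    intro h
    have h1 := congrFun h 1
    rw [hone] at h1
    rcases mul_eq_zero.1 h1 with h2 | h2
    · exact Subgroup.index_ne_zero_of_finite (H := U) (by exact_mod_cast h2)
    · exact isIrr_apply_one_ne_zero hη h2
  obtain ⟨β, hβ, h1⟩ := Cfsg.Agent.OddOrderCharacters.PF4Type.exists_irr_constituent hind hne
  have h1' := h1
  rw [Cfsg.Agent.OddOrderCharacters.IndRes.classInner_indFun_left U η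
    (isIrr_isClassFunction hβ)] at h1
  have h0 : classInner (res U β) η ≠ 0 := by
    rw [← classInner_conj_symm]
    exact (map_ne_zero _).2 h1
  have hrU : IsCharacter U (res U β) :=
    Cfsg.Agent.OddOrderCharacters.IndRes.isCharacter_res U (isIrr_isCharacter hβ)
  have hrest := Cfsg.Agent.OddOrderCharacters.Clifford.isCharacter_sub_irr hrU hη h0
  obtain ⟨k, hk⟩ := classInner_isNat (isCharacter_resTo hNU hrest) (isIrr_isCharacter hθ)
  have h2 : res N β = resTo hNU (res U β - η) + θ := by
    funext n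
    show β n = (β n - η ⟨n, hNU n.2⟩) + θ n
    rw [hηθ]
    ring
  have h3 : classInner (res N β) θ ≠ 0 := by
    rw [h2, classInner_add_left, hk, classInner_irr_self hθ]
    exact_mod_cast Nat.succ_ne_zero k
  have hrc : IsCharacter N (res N β) :=
    Cfsg.Agent.OddOrderCharacters.IndRes.isCharacter_res N (isIrr_isCharacter hβ)
  obtain ⟨e, he⟩ := classInner_isNat hrc (isIrr_isCharacter hθ)
  have hθ1 := isIrr_apply_one_ne_zero hθ
  have hmul := fun n => res_of_invariant (N := N) hθ hinv hβ h3 n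
  have hsm : res N β = (β 1 / θ 1) • θ := by
    funext n
    show β n = β 1 / θ 1 * θ n
    have h2 := hmul n
    field_simp
    linear_combination h2
  have hc : (e : ℂ) = β 1 / θ 1 := by
    rw [← he, hsm, classInner_smul_left, classInner_irr_self hθ, mul_one]
  have hβe : ∀ n : N, β n = e * θ n := by
    intro n
    rw [hc]
    exact congrFun hsm n
  have he0 : e ≠ 0 := by
    rintro rfl
    rw [he] at h3
    simp at h3
  refine ⟨β, e, hβ, he0, ?_, hβe⟩
  obtain ⟨d, hd0, hd⟩ := isIrr_apply_one hθ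
  have h4 : β 1 = ((e * d : ℕ) : ℂ) := by
    have h5 := hβe 1
    rw [hd] at h5
    rw [show β 1 = β ((1 : N) : B) from rfl, h5]
    push_cast
    rfl
  have h5 : indFun U η 1 = ((U.index * d : ℕ) : ℂ) := by
    rw [hone, show η 1 = θ 1 from hηθ 1, hd]
    push_cast
    rfl
  have h6 := degree_le_of_constituent hind hβ h1' h5 h4
  exact Nat.le_of_mul_le_mul_right h6 hd0

/-- The same for an injective homomorphism with normal range. -/
theorem exists_over_hom_of_ext {S : Type v} {B : Type u} [Group S] [Finite S] [Group B] [Finite B]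
    (j : S →* B) (hj : Function.Injective j) (hjn : j.range.Normal) {α : S → ℂ}
    (hα : IsIrrCharacter S α) (hinv : ∀ (b : B) (s s' : S), j s' = b * j s * b⁻¹ → α s' = α s)
    (U : Subgroup B) (hU : j.range ≤ U) {η : U → ℂ} (hη : IsIrrCharacter U η)
    (hηα : ∀ s, η ⟨j s, hU ⟨s, rfl⟩⟩ = α s) :
    ∃ (β : B → ℂ) (e : ℕ), IsIrrCharacter B β ∧ e ≠ 0 ∧ e ≤ U.index ∧
      ∀ s : S, β (j s) = e * α s := by
  classical
  have := Fintype.ofFinite B
  have := Fintype.ofFinite j.range
  have := Fintype.ofFinite U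
  let E : S ≃* j.range := MonoidHom.ofInjective hj
  have hEj : ∀ s, ((E s : j.range) : B) = j s := fun s => rfl
  have hθ : IsIrrCharacter j.range (α ∘ E.symm.toMonoidHom) :=
    isIrr_comp E.symm.toMonoidHom E.symm.surjective hα
  obtain ⟨β, e, hβ, he0, he, h⟩ := exists_over_of_ext j.range U hU hθ (by
    intro b
    funext n
    show α (E.symm ⟨b * n * b⁻¹, _⟩) = α (E.symm n)
    refine hinv b _ _ ?_
    rw [← hEj, ← hEj, E.apply_symm_apply, E.apply_symm_apply]) hη (by
    intro n
    obtain ⟨s, rfl⟩ := E.surjective n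
    show η ⟨j s, _⟩ = α (E.symm (E s))
    rw [E.symm_apply_apply, hηα])
  refine ⟨β, e, hβ, he0, he, fun s => ?_⟩
  have h1 := h (E s)
  rw [hEj] at h1
  rw [h1]
  show (e : ℂ) * α (E.symm (E s)) = _
  rw [E.symm_apply_apply]

section simple

variable {S : Type u} [Group S] [Finite S] [IsSimpleGroup S]

/-- The inclusion of `Inn S ≅ S` into `B`. -/
noncomputable def jB (B : Subgroup (MulAut S)) (hB : (MulAut.conj : S →* MulAut S).range ≤ B) :
    S →* B := (MulAut.conj : S →* MulAut S).codRestrict B fun s => hB ⟨s, rfl⟩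

theorem jB_val (B : Subgroup (MulAut S)) (hB : (MulAut.conj : S →* MulAut S).range ≤ B) (s : S) :
    ((jB B hB s : B) : MulAut S) = MulAut.conj s := rfl

theorem jB_injective (hna : ¬ IsMulCommutative S) (B : Subgroup (MulAut S))
    (hB : (MulAut.conj : S →* MulAut S).range ≤ B) : Function.Injective (jB B hB) := fun a b h =>
  Cfsg.Agent.H235.ExtOut.conj_injective hna (congrArg Subtype.val h)

theorem conj_apply_eq (b : MulAut S) (s : S) : b * MulAut.conj s * b⁻¹ = MulAut.conj (b s) := by
  ext x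
  simp [MulAut.conj_apply]

theorem jB_conj (B : Subgroup (MulAut S)) (hB : (MulAut.conj : S →* MulAut S).range ≤ B) (b : B)
    (s : S) : b * jB B hB s * b⁻¹ = jB B hB ((b : MulAut S) s) :=
  Subtype.ext (conj_apply_eq (b : MulAut S) s)

theorem jB_normal (B : Subgroup (MulAut S)) (hB : (MulAut.conj : S →* MulAut S).range ≤ B) :
    (jB B hB).range.Normal := by
  refine ⟨?_⟩
  rintro _ ⟨s, rfl⟩ b
  exact ⟨(b : MulAut S) s, (jB_conj B hB b s).symm⟩

theorem jB_range (B : Subgroup (MulAut S)) (hB : (MulAut.conj : S →* MulAut S).range ≤ B) :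
    (jB B hB).range = (MulAut.conj : S →* MulAut S).range.subgroupOf B := by
  ext b
  constructor
  · rintro ⟨s, rfl⟩
    exact ⟨s, (jB_val B hB s).symm⟩
  · rintro ⟨s, hs⟩
    exact ⟨s, Subtype.ext ((jB_val B hB s).trans hs)⟩

theorem jB_inv (hna : ¬ IsMulCommutative S) (B : Subgroup (MulAut S))
    (hB : (MulAut.conj : S →* MulAut S).range ≤ B) {α : S → ℂ} (h : ∀ b ∈ B, ∀ s, α (b s) = α s)
    (b : B) (s s' : S) (hs : jB B hB s' = b * jB B hB s * b⁻¹) : α s' = α s := by
  rw [jB_conj] at hs
  rw [jB_injective hna B hB hs]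
  exact h b b.2 s

/-- The general bound `e ^ 2 ≤ |Out S|`. -/
theorem ebd_of_sq (hna : ¬ IsMulCommutative S) {α : S → ℂ} (hα : IsIrrCharacter S α) {c : ℕ}
    (hc : Nat.card (Cfsg.Out S) < (c + 1) ^ 2) : EBd α c := by
  intro B hB hinv
  obtain ⟨β, e, hβ, he0, he, h⟩ := Cfsg.Agent.H685.Acd.exists_over_hom (jB B hB)
    (jB_injective hna B hB) (jB_normal B hB) hα (jB_inv hna B hB hinv)
  refine ⟨β, e, hβ, he0, ?_, h⟩
  have h1 : (jB B hB).range.index ≤ Nat.card (Cfsg.Out S) := by
    rw [jB_range]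
    have h2 := Subgroup.relIndex_le_of_le_right (H := (MulAut.conj : S →* MulAut S).range)
      (K := B) (L := ⊤) le_top (by
        rw [Subgroup.relIndex_top_right]
        exact Subgroup.index_ne_zero_of_finite)
    rw [Subgroup.relIndex_top_right] at h2
    exact h2
  have h2 : e ^ 2 < (c + 1) ^ 2 := (he.trans h1).trans_lt hc
  exact Nat.lt_succ_iff.1 (lt_of_pow_lt_pow_left₀ 2 (Nat.zero_le _) h2)

/-- The bound from a cyclic subgroup of `Out S`. -/
theorem ebd_of_outIdx (hna : ¬ IsMulCommutative S) {α : S → ℂ} (hα : IsIrrCharacter S α) {c : ℕ}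
    (hc : OutIdx S c) : EBd α c := by
  intro B hB hinv
  obtain ⟨g, hg⟩ := hc
  set W : Subgroup (MulAut S) := (MulAut.conj : S →* MulAut S).range ⊔ Subgroup.zpowers g with hW
  have hIW : (MulAut.conj : S →* MulAut S).range ≤ W := le_sup_left
  let U : Subgroup B := W.subgroupOf B
  have hjU : (jB B hB).range ≤ U := by
    rw [jB_range]
    exact fun x hx => hIW hx
  -- the cyclic quotient
  let f : U →* Cfsg.Out S := (QuotientGroup.mk' (Inn S)).comp (B.subtype.comp U.subtype)
  have hf : ∀ u : U, f u = QuotientGroup.mk' (Inn S) ((u : B) : MulAut S) := fun u => rfl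
  have hfker : ∀ u : U, u ∈ f.ker ↔ ((u : B) : MulAut S) ∈ (MulAut.conj : S →* MulAut S).range := by
    intro u
    rw [MonoidHom.mem_ker, hf, QuotientGroup.mk'_apply, QuotientGroup.eq_one_iff]
  have hrange : f.range ≤ Subgroup.zpowers (QuotientGroup.mk' (Inn S) g) := by
    rintro _ ⟨u, rfl⟩
    rw [hf]
    have h1 : ((u : B) : MulAut S) ∈ W := u.2
    have h2 : W.map (QuotientGroup.mk' (Inn S)) ≤
        Subgroup.zpowers (QuotientGroup.mk' (Inn S) g) := by
      rw [hW, Subgroup.map_sup]
      refine sup_le ?_ ?_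
      · rintro _ ⟨_, ⟨s, rfl⟩, rfl⟩
        have h3 : QuotientGroup.mk' (Inn S) (MulAut.conj s) = 1 := by
          rw [QuotientGroup.mk'_apply, QuotientGroup.eq_one_iff]
          exact ⟨s, rfl⟩
        rw [h3]
        exact Subgroup.one_mem _
      · rw [MonoidHom.map_zpowers]
    exact h2 ⟨_, h1, rfl⟩
  have hcyc : IsCyclic (U ⧸ f.ker) := by
    have h1 : IsCyclic f.range := by
      have h2 := Subgroup.inclusion_injective hrange
      exact isCyclic_of_injective (Subgroup.inclusion hrange) h2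
    exact isCyclic_of_surjective (QuotientGroup.quotientKerEquivRange f).symm.toMonoidHom
      (QuotientGroup.quotientKerEquivRange f).symm.surjective
  -- `S` as the kernel
  let k : S →* f.ker := ((jB B hB).codRestrict U fun s => hjU ⟨s, rfl⟩).codRestrict f.ker
    fun s => (hfker _).2 ⟨s, rfl⟩
  have hkv : ∀ s, (((k s : f.ker) : U) : B) = jB B hB s := fun s => rfl
  have hkb : Function.Bijective k := by
    constructor
    · intro a b hab
      apply jB_injective hna B hB
      rw [← hkv, ← hkv, hab]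
    · rintro ⟨u, hu⟩
      obtain ⟨s, hs⟩ := (hfker u).1 hu
      refine ⟨s, ?_⟩
      apply Subtype.ext
      apply Subtype.ext
      apply Subtype.ext
      exact hs
  let E : S ≃* f.ker := MulEquiv.ofBijective k hkb
  have hE : ∀ s, E s = k s := fun s => rfl
  obtain ⟨η, hη, hηE⟩ := Cfsg.Agent.S0886.result f.ker hcyc (α ∘ E.symm)
    (isIrr_comp (E.symm : f.ker →* S) E.symm.surjective hα) (by
      intro u n
      obtain ⟨s, rfl⟩ := E.surjective n
      have h1 : (⟨u * (E s : f.ker) * u⁻¹, (inferInstance : f.ker.Normal).conj_mem _ (E s).2 u⟩ :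
          f.ker) = E (((u : B) : MulAut S) s) := by
        apply Subtype.ext
        apply Subtype.ext
        exact jB_conj B hB (u : B) s
      rw [h1]
      show α (E.symm (E _)) = α (E.symm (E s))
      rw [E.symm_apply_apply, E.symm_apply_apply]
      exact hinv _ (u : B).2 s)
  obtain ⟨β, e, hβ, he0, he, h⟩ := exists_over_hom_of_ext (jB B hB) (jB_injective hna B hB)
    (jB_normal B hB) hα (jB_inv hna B hB hinv) U hjU hη (by
      intro s
      have h1 := hηE (E s)
      rw [hE] at h1
      rw [show (⟨jB B hB s, hjU ⟨s, rfl⟩⟩ : U) = ((k s : f.ker) : U) from rfl, h1, ← hE]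
      show α (E.symm (E s)) = α s
      rw [E.symm_apply_apply])
  refine ⟨β, e, hβ, he0, he.trans ?_, h⟩
  have h2 := Subgroup.relIndex_le_of_le_right (H := W) (K := B) (L := ⊤) le_top (by
        rw [Subgroup.relIndex_top_right]
        exact Subgroup.index_ne_zero_of_finite)
  rw [Subgroup.relIndex_top_right] at h2
  exact (show U.index ≤ W.index from h2).trans hg

/-- Coprime degree: the character extends. -/
theorem ebd_of_coprime (hna : ¬ IsMulCommutative S) {α : S → ℂ} (hα : IsIrrCharacter S α) {d : ℕ}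
    (hd : α 1 = d) (hcop : Nat.Coprime (Nat.card (Cfsg.Out S)) d) : EBd α 1 := by
  classical
  intro B hB hinv
  have hnorm := jB_normal B hB
  let E : S ≃* (jB B hB).range := MonoidHom.ofInjective (jB_injective hna B hB)
  have hE : ∀ s, ((E s : (jB B hB).range) : B) = jB B hB s := fun s => rfl
  have hθ : IsIrrCharacter (jB B hB).range (α ∘ E.symm) :=
    isIrr_comp (E.symm : (jB B hB).range →* S) E.symm.surjective hα
  have hidx : (jB B hB).range.index ∣ Nat.card (Cfsg.Out S) := by
    rw [jB_range]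
    exact Subgroup.relIndex_dvd_index_of_normal (MulAut.conj : S →* MulAut S).range B
  have hcop' : Nat.Coprime (jB B hB).range.index d := Nat.Coprime.coprime_dvd_left hidx hcop
  have hdet : ∀ n : (jB B hB).range, detChar (α ∘ E.symm) n = 1 := by
    intro n
    obtain ⟨δ, hδ⟩ := Cfsg.Agent.CharactersDeep.ExtUnique.exists_hom_detChar hθ
    rw [hδ]
    obtain ⟨s, rfl⟩ := E.surjective n
    let δ' : S →* ℂˣ := δ.comp E.toMonoidHom
    have h1 : δ' s = 1 := by
      rcases (inferInstance : δ'.ker.Normal).eq_bot_or_eq_top with h | h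
      · exfalso
        apply hna
        refine ⟨⟨fun a b => ?_⟩⟩
        have hinj : Function.Injective δ' := (MonoidHom.ker_eq_bot_iff δ').1 h
        apply hinj
        rw [map_mul, map_mul, mul_comm]
      · exact MonoidHom.mem_ker.1 (h ▸ Subgroup.mem_top s)
    have h2 : δ (E s) = 1 := h1
    rw [h2, Units.val_one]
  obtain ⟨χ, hχ, hres⟩ := (Cfsg.Agent.S0866.result (jB B hB).range (α ∘ E.symm) hθ (by
      intro b n
      obtain ⟨s, rfl⟩ := E.surjective n
      have h1 : (⟨b * (E s : (jB B hB).range) * b⁻¹, hnorm.conj_mem _ (E s).2 b⟩ :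
          (jB B hB).range) = E ((b : MulAut S) s) := by
        apply Subtype.ext
        exact jB_conj B hB b s
      rw [h1]
      show α (E.symm (E _)) = α (E.symm (E s))
      rw [E.symm_apply_apply, E.symm_apply_apply]
      exact hinv _ b.2 s) d (by
      show α (E.symm 1) = d
      rw [map_one, hd]) hcop').2
    ⟨1, isCharacter_one, rfl, fun n => (hdet n).symm⟩
  refine ⟨χ, 1, hχ, one_ne_zero, le_rfl, fun s => ?_⟩
  have h1 := hres (E s)
  rw [hE] at h1
  rw [Nat.cast_one, one_mul, show (⟨MulAut.conj s, hB ⟨s, rfl⟩⟩ : B) = jB B hB s from rfl, h1]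
  show α (E.symm (E s)) = α s
  rw [E.symm_apply_apply]

end simple

end Cfsg.Agent.H404.Avg
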