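import Cfsg.Agent.H954.OutLin
import Cfsg.Agent.H934.OutCl
import Cfsg.Agent.H727.PslSq

/-!
# `|Out X| < χ(1)` for `X = PSL(2, q)`
-/

set_option autoImplicit false

namespace Cfsg.Agent.H404.Avg

open Cfsg Matrix
open Cfsg.Agent.H934.OutB Cfsg.Agent.H934.OutCl Cfsg.Agent.H954.OutDeg

universe u

theorem two_mul_lt_pow {f : ℕ} (h : 3 ≤ f) : 4 * f + 1 < 3 ^ f := by
  obtain ⟨k, rfl⟩ : ∃ k, f = k + 3 := ⟨f - 3, by omega⟩
  induction k with
  | zero => norm_num
  | succ n ih =>
    have h1 := ih (by omega)
    rw [show n + 1 + 3 = (n + 3) + 1 by ring, pow_succ]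
    omega

theorem lt_two_pow_sub {f : ℕ} (h : 2 ≤ f) : f < 2 ^ f - 1 := by
  obtain ⟨k, rfl⟩ : ∃ k, f = k + 2 := ⟨f - 2, by omega⟩
  induction k with
  | zero => norm_num
  | succ n ih =>
    have h1 := ih (by omega)
    rw [show n + 1 + 2 = (n + 2) + 1 by ring, pow_succ]
    omega

theorem ol_psl_two {F : Type u} [Field F] [Fintype F]
    [hs : IsSimpleGroup (ProjectiveSpecialLinearGroup (Fin 2) F)]
    (hna : ¬ IsMulCommutative (ProjectiveSpecialLinearGroup (Fin 2) F)) (h4 : 4 ≤ Fintype.card F) :
    OL (ProjectiveSpecialLinearGroup (Fin 2) F) := by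
  classical
  obtain ⟨p, f, hp, hf, hF⟩ := exists_pf F
  have := Fact.mk hp
  have := finite_psl (F := F) 2
  have h1 := Cfsg.Agent.S0813.result (F := F) p f hf hF 2 (by omega) (fun _ => by rw [← hF]; exact h4)
  rw [if_pos rfl, card_pgl (by omega), ← mul_assoc, one_mul] at h1
  have h2 := card_out_of_aut hna h1
  have hup : QuotientGroup.mk' (Subgroup.center (SpecialLinearGroup (Fin 2) F))
      (Cfsg.Agent.H934.HeisChev.up (1 : F)) ≠ 1 := by
    intro h
    have h2 := (QuotientGroup.eq_one_iff _).1 h
    rw [Subgroup.mem_center_iff] at h2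
    have h3 := congrArg (fun A : Matrix.SpecialLinearGroup (Fin 2) F => (A : Matrix (Fin 2) (Fin 2) F) 0 0)
      (h2 ⟨!![1, 0; 1, 1], by rw [Matrix.det_fin_two_of]; ring⟩)
    have h4 : ((!![(1 : F), 0; 1, 1] * !![(1 : F), 1; 0, 1] : Matrix (Fin 2) (Fin 2) F)) 0 0 =
      ((!![(1 : F), 1; 0, 1] * !![(1 : F), 0; 1, 1] : Matrix (Fin 2) (Fin 2) F)) 0 0 := h3
    rw [Matrix.mul_fin_two, Matrix.mul_fin_two] at h4
    simp at h4
  rcases hp.eq_two_or_odd with rfl | hodd
  · -- even characteristic
    have hf2 : 2 ≤ f := by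
      by_contra h0
      have : f = 1 := by omega
      subst this
      rw [hF] at h4
      norm_num at h4
    have h5 : Nat.gcd 2 (Fintype.card F - 1) = 1 := by
      rw [hF]
      have h6 : Odd (2 ^ f - 1) := by
        obtain ⟨k, rfl⟩ : ∃ k, f = k + 1 := ⟨f - 1, by omega⟩
        have : 0 < 2 ^ k := by positivity
        rw [pow_succ]
        exact ⟨2 ^ k - 1, by omega⟩
      exact (Nat.coprime_two_left.2 h6)
    have hchar : CharP F 2 := by
      obtain ⟨r, hr⟩ := CharP.exists F
      have hrp : r.Prime := (CharP.char_is_prime_or_zero F r).resolve_right (CharP.char_ne_zero_of_finite F r)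
      have hd : r ∣ 2 ^ f := by
        rw [← hF]
        exact (CharP.cast_eq_zero_iff F r _).1 (Nat.cast_card_eq_zero F)
      have : r = 2 := (Nat.prime_dvd_prime_iff_eq hrp Nat.prime_two).1 (hrp.dvd_of_dvd_pow hd)
      rwa [this] at hr
    refine (md_param (X := ProjectiveSpecialLinearGroup (Fin 2) F) (fun t : F =>
      QuotientGroup.mk' (Subgroup.center (SpecialLinearGroup (Fin 2) F))
        (Cfsg.Agent.H934.HeisChev.up t)) ?_ hup ?_).ol ?_
    · intro s t
      rw [← map_mul]
      congr 1
      apply Subtype.ext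
      show !![1, s + t; 0, 1] = !![1, s; 0, 1] * !![1, t; 0, 1]
      rw [Matrix.mul_fin_two]
      simp [add_comm]
    · intro c hc
      obtain ⟨d, hd⟩ : ∃ d : F, d ^ 2 = c := by
        have h6 := (PerfectRing.bijective_frobenius (R := F) (p := 2)).2 c
        obtain ⟨d, hd⟩ := h6
        exact ⟨d, hd⟩
      have hd0 : d ≠ 0 := by
        rintro rfl
        apply hc
        rw [← hd]
        ring
      refine ⟨QuotientGroup.mk' _ (Cfsg.Agent.H934.HeisChev.dg d hd0), ?_⟩
      rw [mul_inv_eq_iff_eq_mul, ← map_mul, ← map_mul, Cfsg.Agent.H934.HeisChev.dg_up, hd, mul_one]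
    · rw [h2, h5, mul_one, hF]
      exact lt_two_pow_sub hf2
  · -- odd characteristic
    have hp3 : 3 ≤ p := by
      have := hp.two_le
      rcases this.eq_or_lt with h | h
      · subst h; simp at hodd
      · omega
    have h5 : Nat.gcd 2 (Fintype.card F - 1) ≤ 2 := Nat.gcd_le_left _ (by omega)
    have hout : Nat.card (Cfsg.Out (ProjectiveSpecialLinearGroup (Fin 2) F)) ≤ 2 * f := by
      rw [h2]
      nlinarith
    have hmd := md_half_SL (X := ProjectiveSpecialLinearGroup (Fin 2) F)
      (QuotientGroup.mk' (Subgroup.center (SpecialLinearGroup (Fin 2) F))) ⟨1, hup⟩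
    rcases Nat.lt_or_ge f 3 with hf3 | hf3
    · rcases Nat.lt_or_ge f 2 with hf2 | hf2
      · refine (md_three hna).ol ?_
        have : f = 1 := by omega
        subst this
        omega
      · have hf' : f = 2 := by omega
        subst hf'
        rcases hp3.eq_or_lt with h3 | h3
        · subst h3
          intro χ hχ
          obtain ⟨hd, -⟩ := Cfsg.Agent.H727.PslSq.psl_degrees (F := F) (h := 4) (by rw [hF]; norm_num)
            le_rfl (by decide)
          have h6 := hd (charDegree (χ : ProjectiveSpecialLinearGroup (Fin 2) F → ℂ))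
            (Cfsg.Agent.H727.DegCount.cnt_pos χ (Cfsg.Agent.Blocks.Basic.irr_one_eq_charDegree χ.2))
          have h7 : 5 ≤ charDegree (χ : ProjectiveSpecialLinearGroup (Fin 2) F → ℂ) := by
            simp only [Finset.mem_insert, Finset.mem_singleton] at h6
            rcases h6 with h | h | h | h | h
            · exact absurd h hχ
            all_goals omega
          omega
        · refine hmd.ol ?_
          rw [hF]
          have h6 : 5 ≤ p := by
            by_contra h0
            have : p = 4 := by omega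
            subst this
            norm_num at hp
          have h7 : 25 ≤ p ^ 2 := by nlinarith
          omega
    · refine hmd.ol ?_
      rw [hF]
      have h6 := two_mul_lt_pow hf3
      have h7 : 3 ^ f ≤ p ^ f := Nat.pow_le_pow_left hp3 f
      omega

end Cfsg.Agent.H404.Avg
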