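import Cfsg.Agent.H404.Avg.OddMain
import Cfsg.Agent.H595.AvgTwo
import Cfsg.Agent.H272.GoodAll
import Cfsg.Agent.H954.OutAllD
import Cfsg.Agent.H954.OutAllL
import Cfsg.Agent.H671.FactRows

/-!
# S4831 from Ito-Michler for simple groups (helper404)
-/

set_option autoImplicit false

namespace Cfsg.Agent.H404.Avg

open Cfsg

universe u

theorem inp_of {p : ℕ} [hp : Fact p.Prime]
    (hK : ∀ (X : Type u) [Group X] [Finite X] [IsSimpleGroup X], Cfsg.IsKnownSimple' X)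
    (hK0 : ∀ (X : Type) [Group X] [Finite X] [IsSimpleGroup X], Cfsg.IsKnownSimple' X)
    (hIM : Cfsg.Agent.H671.H5.FactIM.{u}) : Inp.{u} p where
  im := fun S _ _ _ hna hd => hIM S hna p hp.out hd
  ol := fun S _ _ _ hna => Cfsg.Agent.H954.OutAllL.ol hna (hK S)
  ol0 := fun S _ _ _ hna => Cfsg.Agent.H954.OutAllL.ol hna (hK0 S)
  out := Cfsg.Agent.H954.OutAllD.outDeg hK
  ext := Cfsg.Agent.H671.FactRows.factExt hK0
  good := fun h5 S _ _ _ hna hd => Cfsg.Agent.H272.GoodAll.good_all hp.out h5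
    (fun S _ _ _ hna hd => hIM S hna p hp.out hd)
    (fun S _ _ _ hna => Cfsg.Agent.H954.OutAllL.ol hna (hK S)) hK S hna hd

/-- **S4831 from Ito-Michler for simple groups.** -/
theorem final (hK : ∀ (X : Type u) [Group X] [Finite X] [IsSimpleGroup X], Cfsg.IsKnownSimple' X)
    (hK0 : ∀ (X : Type) [Group X] [Finite X] [IsSimpleGroup X], Cfsg.IsKnownSimple' X)
    (hIM : Cfsg.Agent.H671.H5.FactIM.{u}) {G : Type u} [Group G] [Finite G] (p : ℕ)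
    [hp : Fact p.Prime] (hacd : (p = 2 → 2 * (∑ᶠ χ : {χ : Cfsg.IrrCharacter G // Cfsg.charDegree (χ : G → ℂ) = 1 ∨ p ∣ Cfsg.charDegree (χ : G → ℂ)}, Cfsg.charDegree (χ.1 : G → ℂ)) < 5 * Nat.card {χ : Cfsg.IrrCharacter G // Cfsg.charDegree (χ : G → ℂ) = 1 ∨ p ∣ Cfsg.charDegree (χ : G → ℂ)}) ∧ (p = 3 → 3 * (∑ᶠ χ : {χ : Cfsg.IrrCharacter G // Cfsg.charDegree (χ : G → ℂ) = 1 ∨ p ∣ Cfsg.charDegree (χ : G → ℂ)}, Cfsg.charDegree (χ.1 : G → ℂ)) < 7 * Nat.card {χ : Cfsg.IrrCharacter G // Cfsg.charDegree (χ : G → ℂ) = 1 ∨ p ∣ Cfsg.charDegree (χ : G → ℂ)}) ∧ (5 ≤ p → 2 * (∑ᶠ χ : {χ : Cfsg.IrrCharacter G // Cfsg.charDegree (χ : G → ℂ) = 1 ∨ p ∣ Cfsg.charDegree (χ : G → ℂ)}, Cfsg.charDegree (χ.1 : G → ℂ)) < (p + 1) * Nat.card {χ : Cfsg.IrrCharacter G // Cfsg.charDegree (χ : G → ℂ) = 1 ∨ p ∣ Cfsg.charDegree (χ : G → ℂ)})) :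
    Group.IsSolvable ↥(Subgroup.closure {g : G | ∃ k : ℕ, orderOf g = p ^ k}) := by
  by_contra hns
  have hI : Inp.{u} p := inp_of hK hK0 hIM
  have hp2 := hp.out.two_le
  have hodd : ∀ {A B : ℕ}, ((p = 3 ∧ A = 3 ∧ B = 7) ∨ (5 ≤ p ∧ A = 2 ∧ B = p + 1)) → B ≤ A * p →
      ¬ (A * (∑ᶠ χ : {χ : IrrCharacter G // charDegree (χ : G → ℂ) = 1 ∨
        p ∣ charDegree (χ : G → ℂ)}, charDegree (χ.1 : G → ℂ)) < B *
        Nat.card {χ : IrrCharacter G // charDegree (χ : G → ℂ) = 1 ∨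
          p ∣ charDegree (χ : G → ℂ)}) := by
    intro A B hAB hle h
    have h1 := lt_of_avg hp2 hle h
    have h2 := odd_main hAB hI (Nat.card G) G le_rfl hns
    exact absurd h1 (not_lt.2 h2)
  rcases Nat.lt_or_ge p 5 with h | h
  · have h4 : p ≠ 4 := by
      rintro rfl
      exact absurd hp.out (by norm_num)
    rcases (by omega : p = 2 ∨ p = 3) with h2 | h3
    · subst h2
      have h1 := Cfsg.Agent.H595.AvgTwo.two_main hI.im hI.ol hns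
      exact absurd (hacd.1 rfl) (not_lt.2 h1)
    · exact hodd (Or.inl ⟨h3, rfl, rfl⟩) (by omega) (hacd.2.1 h3)
  · exact hodd (Or.inr ⟨h, rfl, rfl⟩) (by omega) (hacd.2.2 h)

end Cfsg.Agent.H404.Avg
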