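import Cfsg.Agent.H404.Avg.NabB
import Cfsg.Agent.H429.RegPerm
import Cfsg.Agent.H671.Frame

/-!
# The simple factors of a minimal normal subgroup (helper404, for S4831)
-/

set_option autoImplicit false
set_option linter.unusedSectionVars false

namespace Cfsg.Agent.H404.Avg

open Cfsg.Agent.H429.Reg
open Cfsg.Agent.H685.Acd (eq_one_of_central dvd_index)

universe u v

variable {G : Type u} [Group G] {M S : Subgroup G} {T : Type v} [Group T] [IsSimpleGroup T]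

theorem factor_coord (hSM : S ≤ M) (hMN : M ≤ Subgroup.normalizer (S : Set G)) [IsSimpleGroup S]
    (hT : ¬ IsMulCommutative T) {k : ℕ} (e : M ≃* (Fin k → T)) :
    ∃ i, ∀ m : M, (m : G) ∈ S ↔ ∀ j, j ≠ i → e m j = 1 := by
  classical
  have hconj : ∀ (m : M) (s : G), s ∈ S → (m : G) * s * (m : G)⁻¹ ∈ S := fun m s hs =>
    (Subgroup.mem_normalizer_iff.1 (hMN m.2) s).1 hs
  obtain ⟨s, hs⟩ := exists_ne (1 : S)
  obtain ⟨i, hi⟩ : ∃ i, e ⟨s, hSM s.2⟩ i ≠ 1 := by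
    by_contra hcon
    push Not at hcon
    apply hs
    have h1 : e ⟨s, hSM s.2⟩ = 1 := funext hcon
    have h2 : (⟨(s : G), hSM s.2⟩ : M) = 1 := e.injective (h1.trans (map_one e).symm)
    exact Subtype.ext (congrArg (fun z : M => (z : G)) h2)
  obtain ⟨t, ht⟩ : ∃ t : T, e ⟨s, hSM s.2⟩ i * t ≠ t * e ⟨s, hSM s.2⟩ i := by
    by_contra hcon
    push Not at hcon
    exact hi (eq_one_of_central hT hcon)
  let d : M := e.symm (Pi.mulSingle i t)
  let c : M := d * ⟨s, hSM s.2⟩ * d⁻¹ * (⟨s, hSM s.2⟩ : M)⁻¹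
  have hed : e d = Pi.mulSingle i t := e.apply_symm_apply _
  have hec : e c = Pi.mulSingle i t * e ⟨s, hSM s.2⟩ * (Pi.mulSingle i t)⁻¹ *
      (e ⟨s, hSM s.2⟩)⁻¹ := by
    show e (d * ⟨s, hSM s.2⟩ * d⁻¹ * (⟨s, hSM s.2⟩ : M)⁻¹) = _
    rw [map_mul, map_mul, map_mul, map_inv, map_inv, hed]
  have hcS : (c : G) ∈ S := S.mul_mem (hconj d s s.2) (S.inv_mem s.2)
  have hcj : ∀ j, j ≠ i → e c j = 1 := by
    intro j hj
    rw [hec]
    simp only [Pi.mul_apply, Pi.inv_apply, Pi.mulSingle_eq_of_ne hj, one_mul, inv_one, mul_one,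
      mul_inv_cancel]
  have hci : e c i ≠ 1 := by
    rw [hec]
    simp only [Pi.mul_apply, Pi.inv_apply, Pi.mulSingle_eq_same]
    intro h
    rw [mul_inv_eq_one, mul_inv_eq_iff_eq_mul] at h
    exact ht h.symm
  -- all elements of `S` live in the coordinate `i`
  let D : Subgroup S :=
    { carrier := {x | ∀ j, j ≠ i → e ⟨x, hSM x.2⟩ j = 1}
      one_mem' := fun j _ => by
        have h1 : (⟨((1 : S) : G), hSM (1 : S).2⟩ : M) = 1 := rfl
        rw [h1, map_one]; rfl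
      mul_mem' := fun {x y} hx hy j hj => by
        have h1 : (⟨((x * y : S) : G), hSM (x * y).2⟩ : M) =
          ⟨x, hSM x.2⟩ * ⟨y, hSM y.2⟩ := rfl
        rw [h1, map_mul, Pi.mul_apply, hx j hj, hy j hj, one_mul]
      inv_mem' := fun {x} hx j hj => by
        have h1 : (⟨((x⁻¹ : S) : G), hSM (x⁻¹).2⟩ : M) = (⟨x, hSM x.2⟩ : M)⁻¹ := rfl
        rw [h1, map_inv, Pi.inv_apply, hx j hj, inv_one] }
  have hDm : ∀ x : S, x ∈ D ↔ ∀ j, j ≠ i → e ⟨x, hSM x.2⟩ j = 1 := fun x => Iff.rfl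
  have hDn : D.Normal := by
    refine ⟨fun x hx y => (hDm _).2 fun j hj => ?_⟩
    have h1 : (⟨((y * x * y⁻¹ : S) : G), hSM (y * x * y⁻¹).2⟩ : M) =
      ⟨y, hSM y.2⟩ * ⟨x, hSM x.2⟩ * (⟨y, hSM y.2⟩ : M)⁻¹ := rfl
    rw [h1, map_mul, map_mul, map_inv, Pi.mul_apply, Pi.mul_apply, Pi.inv_apply,
      (hDm x).1 hx j hj, mul_one, mul_inv_cancel]
  have hc1 : (⟨(c : G), hcS⟩ : S) ∈ D := (hDm _).2 hcj
  have hDtop : D = ⊤ := by
    rcases hDn.eq_bot_or_eq_top with h | h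
    · exfalso
      apply hci
      rw [h, Subgroup.mem_bot] at hc1
      have h1 : c = 1 := Subtype.ext (congrArg (fun z : S => (z : G)) hc1)
      rw [h1, map_one]
      rfl
    · exact h
  have hSi : ∀ (x : M), (x : G) ∈ S → ∀ j, j ≠ i → e x j = 1 := by
    intro x hx
    have h1 : (⟨(x : G), hx⟩ : S) ∈ D := hDtop ▸ Subgroup.mem_top _
    exact (hDm _).1 h1
  -- the coordinates are all of `T`
  let E : Subgroup T :=
    { carrier := {t | ∃ x : M, (x : G) ∈ S ∧ e x i = t}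
      one_mem' := ⟨1, S.one_mem, by rw [map_one]; rfl⟩
      mul_mem' := by
        rintro _ _ ⟨x, hx, rfl⟩ ⟨y, hy, rfl⟩
        exact ⟨x * y, S.mul_mem hx hy, by rw [map_mul]; rfl⟩
      inv_mem' := by
        rintro _ ⟨x, hx, rfl⟩
        exact ⟨x⁻¹, S.inv_mem hx, by rw [map_inv]; rfl⟩ }
  have hEm : ∀ t, t ∈ E ↔ ∃ x : M, (x : G) ∈ S ∧ e x i = t := fun t => Iff.rfl
  have hEn : E.Normal := by
    refine ⟨fun t ht y => ?_⟩
    obtain ⟨x, hx, rfl⟩ := (hEm t).1 ht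
    refine (hEm _).2 ⟨e.symm (Pi.mulSingle i y) * x * (e.symm (Pi.mulSingle i y))⁻¹,
      hconj _ x hx, ?_⟩
    rw [map_mul, map_mul, map_inv, e.apply_symm_apply, Pi.mul_apply, Pi.mul_apply, Pi.inv_apply,
      Pi.mulSingle_eq_same]
  have hEtop : E = ⊤ := by
    rcases hEn.eq_bot_or_eq_top with h | h
    · exfalso
      apply hci
      have h1 : e c i ∈ E := (hEm _).2 ⟨c, hcS, rfl⟩
      rwa [h, Subgroup.mem_bot] at h1
    · exact h
  refine ⟨i, fun m => ⟨hSi m, fun hm => ?_⟩⟩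
  obtain ⟨x, hx, hxi⟩ := (hEm (e m i)).1 (hEtop ▸ Subgroup.mem_top _)
  have h1 : x = m := by
    apply e.injective
    funext j
    by_cases hj : j = i
    · rw [hj, hxi]
    · rw [hSi x hx j hj, hm j hj]
  rw [← h1]
  exact hx

/-- The factor is isomorphic to `T`. -/
theorem factor_equiv {k : ℕ} (e : M ≃* (Fin k → T)) (hSM : S ≤ M) {i : Fin k}
    (hi : ∀ m : M, (m : G) ∈ S ↔ ∀ j, j ≠ i → e m j = 1) : Nonempty (S ≃* T) := by
  classical
  let f : S →* T := ((Pi.evalMonoidHom (fun _ => T) i).comp (e : M →* (Fin k → T))).comp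
    (Subgroup.inclusion hSM)
  have hf : ∀ s : S, f s = e ⟨s, hSM s.2⟩ i := fun s => rfl
  refine ⟨MulEquiv.ofBijective f ⟨?_, ?_⟩⟩
  · intro a b h
    rw [hf, hf] at h
    have h1 : (⟨(a : G), hSM a.2⟩ : M) = ⟨b, hSM b.2⟩ := by
      apply e.injective
      funext j
      by_cases hj : j = i
      · rw [hj]
        exact h
      · rw [(hi _).1 a.2 j hj, (hi _).1 b.2 j hj]
    exact Subtype.ext (congrArg (fun z : M => (z : G)) h1)
  · intro t
    have h1 : ((e.symm (Pi.mulSingle i t) : M) : G) ∈ S := by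
      rw [hi]
      intro j hj
      rw [e.apply_symm_apply, Pi.mulSingle_eq_of_ne hj]
    refine ⟨⟨_, h1⟩, ?_⟩
    rw [hf]
    show e (e.symm (Pi.mulSingle i t)) i = t
    rw [e.apply_symm_apply, Pi.mulSingle_eq_same]

variable [hM : M.Normal]

theorem conj_mem_of_fix (hT : ¬ IsMulCommutative T) {k : ℕ} (e : M ≃* (Fin k → T)) (hSM : S ≤ M)
    {i : Fin k} (hi : ∀ m : M, (m : G) ∈ S ↔ ∀ j, j ≠ i → e m j = 1) {g : G}
    (hg : gp hT e g i = i) {s : G} (hs : s ∈ S) : g * s * g⁻¹ ∈ S := by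
  have h1 : ∀ j, j ≠ i → e ⟨g * s * g⁻¹, hM.conj_mem s (hSM hs) g⟩ j = 1 := by
    intro j hj
    have h2 : (gp hT e g)⁻¹ j ≠ i := by
      intro h
      apply hj
      rw [← hg, ← h]
      exact ((gp hT e g).apply_symm_apply j).symm
    have h3 := gp_one_iff hT e g ⟨s, hSM hs⟩ ⟨g * s * g⁻¹, hM.conj_mem s (hSM hs) g⟩ rfl
      ((gp hT e g)⁻¹ j)
    rw [show gp hT e g ((gp hT e g)⁻¹ j) = j from (gp hT e g).apply_symm_apply j] at h3
    exact h3.2 ((hi ⟨s, hSM hs⟩).1 hs _ h2)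
  exact (hi ⟨g * s * g⁻¹, hM.conj_mem s (hSM hs) g⟩).2 h1

theorem mem_normalizer_of_fix (hT : ¬ IsMulCommutative T) {k : ℕ} (e : M ≃* (Fin k → T))
    (hSM : S ≤ M) {i : Fin k} (hi : ∀ m : M, (m : G) ∈ S ↔ ∀ j, j ≠ i → e m j = 1) {g : G}
    (hg : gp hT e g i = i) : g ∈ Subgroup.normalizer (S : Set G) := by
  have hg' : gp hT e g⁻¹ i = i := by
    rw [map_inv, Equiv.Perm.inv_eq_iff_eq, hg]
  rw [Subgroup.mem_normalizer_iff]
  intro s
  refine ⟨fun hs => conj_mem_of_fix hT e hSM hi hg hs, fun hs => ?_⟩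
  have h1 := conj_mem_of_fix hT e hSM hi hg' hs
  have h2 : g⁻¹ * (g * s * g⁻¹) * g⁻¹⁻¹ = s := by group
  rwa [h2] at h1

/-- An element of a Sylow subgroup moving a factor. -/
theorem dvd_of_moves [Finite G] (hT : ¬ IsMulCommutative T) {k : ℕ} (e : M ≃* (Fin k → T))
    (hmin : ∀ X : Subgroup G, X.Normal → X ≤ M → X = ⊥ ∨ X = M) {p : ℕ} [hp : Fact p.Prime]
    (P : Sylow p G) (hF : M ⊔ Subgroup.normalizer ((P : Subgroup G) : Set G) = ⊤) {x : G}
    (hx : x ∈ P) {i : Fin k} (hi : gp hT e x i ≠ i) : p ∣ k := by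
  classical
  let _ : MulAction G (Fin k) := MulAction.compHom (Fin k) (gp hT e)
  have hsm : ∀ (g : G) (j : Fin k), g • j = gp hT e g j := fun g j => rfl
  have htr : MulAction.IsPretransitive G (Fin k) := by
    refine ⟨fun a b => ?_⟩
    obtain ⟨v, hv⟩ := exists_gp hT hmin e a b
    exact ⟨v, hv⟩
  have h1 : (MulAction.stabilizer G i).index = k := by
    rw [MulAction.index_stabilizer_of_transitive, Nat.card_eq_fintype_card, Fintype.card_fin]
  have hMT : M ≤ MulAction.stabilizer G i := by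
    intro m hm
    rw [MulAction.mem_stabilizer_iff, hsm]
    have h2 := gp_mem hT e ⟨m, hm⟩
    change gp hT e m = 1 at h2
    rw [h2]
    rfl
  rw [← h1]
  refine dvd_index P hMT hF hx (g := 1) ?_
  rw [one_mul, inv_one, mul_one, MulAction.mem_stabilizer_iff, hsm]
  exact hi

end Cfsg.Agent.H404.Avg
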