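import Cfsg.Agent.H404.Avg.Wt
import Cfsg.Agent.H404.Avg.Ext

/-!
# Characters of `G` from a character of a simple factor of `M`: refined counting (helper404, for S4831)
-/

set_option autoImplicit false
set_option linter.unusedSectionVars false

namespace Cfsg.Agent.H404.Avg

open Cfsg
open scoped ComplexConjugate commutatorElement
open Cfsg.Agent.Characters.Core
open Cfsg.Agent.OddOrderCharacters.NormalInduced (conjFn)
open Cfsg.Agent.OddOrderCharacters.IndRes (res)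
open Cfsg.Agent.OddOrderCharacters.PF9.CliffGen (resTo inertia le_inertia)
open Cfsg.Agent.H612.MinNormal (cj mem_cj mem_normalizer_iff_cj)
open Cfsg.Agent.H685.Acd (count eq_one_of_central charDegree_eq_one_of_ker exists_over_normal)

universe u v

section proj

variable {G : Type u} [Group G] {M S : Subgroup G}

/-- The projection commutes with conjugation. -/
theorem pi_conj [hM : M.Normal] [IsSimpleGroup S] (hSna : ¬ IsMulCommutative S) (π : M →* S)
    (hπ1 : ∀ (m : M) (x : S), (m : G) * x * (m : G)⁻¹ = (π m : G) * x * (π m : G)⁻¹)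
    {g : G} (hg : g ∈ Subgroup.normalizer (S : Set G)) (m : M) :
    π ⟨g * m * g⁻¹, hM.conj_mem m m.2 g⟩ =
      ⟨g * π m * g⁻¹, (Subgroup.mem_normalizer_iff.1 hg (π m)).1 (π m).2⟩ := by
  rw [← inv_mul_eq_one]
  apply eq_one_of_central hSna
  intro x
  apply Subtype.ext
  -- conjugation by both elements is the same
  have h1 := hπ1 ⟨g * m * g⁻¹, hM.conj_mem m m.2 g⟩ x
  have hx : g⁻¹ * x * g ∈ S := by
    have h2 := (Subgroup.mem_normalizer_iff.1 ((Subgroup.normalizer (S : Set G)).inv_mem hg) x).1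
      x.2
    rwa [inv_inv] at h2
  have h3 := hπ1 m ⟨g⁻¹ * x * g, hx⟩
  have h4 : (g * m * g⁻¹) * x * (g * m * g⁻¹)⁻¹ =
      (g * π m * g⁻¹) * x * (g * π m * g⁻¹)⁻¹ := by
    have h5 : (m : G) * (g⁻¹ * x * g) * (m : G)⁻¹ = (π m : G) * (g⁻¹ * x * g) * (π m : G)⁻¹ := h3
    calc (g * m * g⁻¹) * x * (g * m * g⁻¹)⁻¹ = g * ((m : G) * (g⁻¹ * x * g) * (m : G)⁻¹) * g⁻¹ := by
          group
      _ = g * ((π m : G) * (g⁻¹ * x * g) * (π m : G)⁻¹) * g⁻¹ := by rw [h5]
      _ = _ := by group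
  set a : S := π ⟨g * m * g⁻¹, hM.conj_mem m m.2 g⟩ with ha
  have h6 : (a : G) * x * (a : G)⁻¹ = (g * π m * g⁻¹) * x * (g * π m * g⁻¹)⁻¹ := by
    rw [← h1]
    exact h4
  show ((a : G)⁻¹ * (g * π m * g⁻¹)) * x = x * ((a : G)⁻¹ * (g * π m * g⁻¹))
  calc ((a : G)⁻¹ * (g * π m * g⁻¹)) * x
      = (a : G)⁻¹ * ((g * π m * g⁻¹) * x * (g * π m * g⁻¹)⁻¹) * (g * π m * g⁻¹) := by group
    _ = (a : G)⁻¹ * ((a : G) * x * (a : G)⁻¹) * (g * π m * g⁻¹) := by rw [h6]
    _ = x * ((a : G)⁻¹ * (g * π m * g⁻¹)) := by group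

end proj

/-- The group of automorphisms of `S` induced by the subgroup `T` of the normalizer. -/
def img {G : Type u} [Group G] {S T : Subgroup G} (hTN : T ≤ Subgroup.normalizer (S : Set G)) :
    Subgroup (MulAut S) :=
  ((Subgroup.normalizerMonoidHom S).comp (Subgroup.inclusion hTN)).range

/-- Characters of `G` from a character `α` of a simple factor of `M`, for a given source `hR` of
characters over `α` of the groups between `Inn S` and `Aut S`. -/
theorem nab_gen {G : Type u} [Group G] [Fintype G] (M : Subgroup G) [hM : M.Normal] [Fintype M]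
    (hMG : M ≤ commutator G) {S : Subgroup G} [hsimple : IsSimpleGroup S]
    (hSna : ¬ IsMulCommutative S) (hSM : S ≤ M)
    (hcj : ∀ g : G, cj g S = S ∨ cj g S ≤ Subgroup.centralizer (S : Set G))
    (π : M →* S) (hπ1 : ∀ (m : M) (x : S), (m : G) * x * (m : G)⁻¹ = (π m : G) * x * (π m : G)⁻¹)
    (hπ2 : ∀ (m : M) (s : S), (m : G) = s → π m = s) (α : IrrCharacter S)
    (hα : charDegree (α : S → ℂ) ≠ 1) (R : Subgroup (MulAut S) → ℕ → Prop)
    (hR : ∀ B : Subgroup (MulAut S), ∀ hB : (MulAut.conj : S →* MulAut S).range ≤ B,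
      (∀ b ∈ B, ∀ s, (α : S → ℂ) (b s) = (α : S → ℂ) s) →
      ∃ (β : B → ℂ) (e : ℕ), IsIrrCharacter B β ∧ e ≠ 0 ∧ R B e ∧
        ∀ s, β ⟨MulAut.conj s, hB ⟨s, rfl⟩⟩ = e * (α : S → ℂ) s) :
    ∃ (T : Subgroup G) (hTN : T ≤ Subgroup.normalizer (S : Set G)) (e : ℕ), M ≤ T ∧
      (∀ t, t ∈ T ↔ ∃ h : t ∈ Subgroup.normalizer (S : Set G), ∀ s : S,
        (α : S → ℂ) ⟨t * s * t⁻¹, (Subgroup.mem_normalizer_iff.1 h s).1 s.2⟩ = (α : S → ℂ) s) ∧
      (MulAut.conj : S →* MulAut S).range ≤ img hTN ∧ e ≠ 0 ∧ R (img hTN) e ∧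
      Nat.card (G →* ℂˣ) ≤ T.index * e ^ 2 * Nat.card {χ : IrrCharacter G //
        charDegree (χ : G → ℂ) = T.index * (e * charDegree (α : S → ℂ)) ∧
        classInner (res M χ) ((α : S → ℂ) ∘ π) ≠ 0} := by
  classical
  have hirrθ : IsIrrCharacter M ((α : S → ℂ) ∘ π) := isIrr_comp π (fun s =>
    ⟨⟨s, hSM s.2⟩, hπ2 _ _ rfl⟩) α.2
  set θ : M → ℂ := (α : S → ℂ) ∘ π with hθ
  set T : Subgroup G := inertia M θ with hT
  have hmem : ∀ t, t ∈ T ↔ conjFn M θ t = θ := fun t => Iff.rfl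
  have hMT : M ≤ T := le_inertia (isIrr_isClassFunction hirrθ)
  have hST : S ≤ T := hSM.trans hMT
  have hθs : ∀ (s : S) (h : (s : G) ∈ M), θ ⟨s, h⟩ = (α : S → ℂ) s := by
    intro s h
    rw [hθ, Function.comp_apply, hπ2 ⟨s, h⟩ s rfl]
  have hTel : ∀ t ∈ T, ∀ m : M, θ ⟨t * m * t⁻¹, hM.conj_mem m m.2 t⟩ = θ m := fun t ht m =>
    congrFun ((hmem t).1 ht) m
  -- `T` normalizes `S`
  have hTN : ∀ t ∈ T, t ∈ Subgroup.normalizer (S : Set G) := by
    intro t ht
    rw [mem_normalizer_iff_cj]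
    rcases hcj t with h | h
    · exact h
    · exfalso
      apply hα
      apply charDegree_eq_one_of_ker α.2
      intro s
      have h1 := hTel t ht ⟨s, hSM s.2⟩
      rw [hθs] at h1
      rw [← h1, hθ, Function.comp_apply]
      refine congrArg (α : S → ℂ) ?_
      apply eq_one_of_central hSna
      intro x
      apply Subtype.ext
      have h2 : t * s * t⁻¹ ∈ Subgroup.centralizer (S : Set G) := h ⟨s, s.2, rfl⟩
      have h3 := Subgroup.mem_centralizer_iff.1 h2 x x.2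
      have h4 := hπ1 ⟨t * s * t⁻¹, hM.conj_mem _ (hSM s.2) t⟩ x
      have h5 : (t * s * t⁻¹) * x * (t * s * t⁻¹)⁻¹ = (x : G) := by
        rw [← h3, mul_inv_cancel_right]
      have h6 : (π ⟨t * s * t⁻¹, hM.conj_mem _ (hSM s.2) t⟩ : G) * x *
          (π ⟨t * s * t⁻¹, hM.conj_mem _ (hSM s.2) t⟩ : G)⁻¹ = x := by
        rw [← h4]
        exact h5
      exact mul_inv_eq_iff_eq_mul.1 h6
  have hTα : ∀ t (h : t ∈ T) (s : S), (α : S → ℂ) ⟨t * s * t⁻¹,
      (Subgroup.mem_normalizer_iff.1 (hTN t h) s).1 s.2⟩ = (α : S → ℂ) s := by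
    intro t h s
    have h1 := hTel t h ⟨s, hSM s.2⟩
    rw [hθs] at h1
    rw [← h1, ← hθs ⟨t * s * t⁻¹, (Subgroup.mem_normalizer_iff.1 (hTN t h) s).1 s.2⟩
      (hM.conj_mem _ (hSM s.2) t)]
  have hiff : ∀ t, t ∈ T ↔ ∃ h : t ∈ Subgroup.normalizer (S : Set G), ∀ s : S,
      (α : S → ℂ) ⟨t * s * t⁻¹, (Subgroup.mem_normalizer_iff.1 h s).1 s.2⟩ = (α : S → ℂ) s := by
    intro t
    refine ⟨fun ht => ⟨hTN t ht, hTα t ht⟩, ?_⟩
    rintro ⟨h, h'⟩
    rw [hmem]
    funext m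
    show (α : S → ℂ) (π ⟨t * m * t⁻¹, _⟩) = (α : S → ℂ) (π m)
    rw [pi_conj hSna π hπ1 h m]
    exact h' (π m)
  -- the action on `S`
  let c : T →* MulAut S := (Subgroup.normalizerMonoidHom S).comp (Subgroup.inclusion hTN)
  have hc : ∀ (t : T) (s : S), ((c t s : S) : G) = t * s * (t : G)⁻¹ := fun t s => rfl
  let B : Subgroup (MulAut S) := img (S := S) hTN
  let q : T →* B := c.rangeRestrict
  have hqs : Function.Surjective q := c.rangeRestrict_surjective
  have hcs : ∀ s : S, c ⟨s, hST s.2⟩ = MulAut.conj s := by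
    intro s
    ext x
    rfl
  have hB : (MulAut.conj : S →* MulAut S).range ≤ B := by
    rintro _ ⟨s, rfl⟩
    exact ⟨⟨s, hST s.2⟩, hcs s⟩
  obtain ⟨β, e, hβ, he0, he, hβe⟩ := hR B hB (by
    rintro _ ⟨t, rfl⟩ s
    exact hTα t t.2 s)
  -- the character of `T`
  have hψ : IsIrrCharacter T (β ∘ q) := isIrr_comp q hqs hβ
  have hres : resTo hMT (β ∘ q) = (e : ℂ) • θ := by
    funext m
    show β (q ⟨m, hMT m.2⟩) = e * (α : S → ℂ) (π m)
    rw [← hβe]
    congr 1
    apply Subtype.ext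
    show c ⟨m, hMT m.2⟩ = MulAut.conj (π m)
    ext x
    exact hπ1 m x
  have hTf : Fintype T := Fintype.ofFinite _
  have hee : (e : ℂ) ≠ 0 := by exact_mod_cast he0
  have h1 := count M hMG hirrθ T hmem hMT hψ (m := e ^ 2) (d := e * charDegree (α : S → ℂ))
    (by rw [hres, classInner_smul_left, classInner_irr_self hirrθ, mul_one]; exact hee)
    (by
      rw [hres, classInner_smul_left, classInner_smul_right, classInner_irr_self hirrθ,
        Complex.conj_natCast]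
      push_cast
      ring)
    (by
      apply Cfsg.Agent.Blocks.Basic.charDegree_of_eq
      have h2 := hβe 1
      rw [Cfsg.Agent.Blocks.Basic.irr_one_eq_charDegree α.2] at h2
      show β (q 1) = _
      have h3 : q 1 = ⟨MulAut.conj 1, hB ⟨1, rfl⟩⟩ := by
        rw [map_one]
        exact Subtype.ext (map_one _).symm
      rw [h3, h2]
      push_cast
      rfl)
  refine ⟨T, hTN, e, hMT, hiff, hB, he0, he, h1.trans ?_⟩
  exact Nat.mul_le_mul_right _ (Nat.mul_le_mul_right _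
    (Cfsg.Agent.H705.StrongLin.card_hom_le T))

/-- `e ^ 2 * |N_G(S) : T| ≤ |Out S|`. -/
theorem sq_mul_relIndex_le {G : Type u} [Group G] [Finite G] {S T : Subgroup G}
    (hTN : T ≤ Subgroup.normalizer (S : Set G)) (hCT : Subgroup.centralizer (S : Set G) ≤ T) {e : ℕ}
    (hB : (MulAut.conj : S →* MulAut S).range ≤ img hTN)
    (he : e ^ 2 ≤ (MulAut.conj : S →* MulAut S).range.relIndex (img hTN)) :
    e ^ 2 * T.relIndex (Subgroup.normalizer (S : Set G)) ≤
      (MulAut.conj : S →* MulAut S).range.index := by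
  classical
  set N := Subgroup.normalizer (S : Set G) with hN
  set φ : N →* MulAut S := Subgroup.normalizerMonoidHom S with hφ
  have h1 : img hTN = (T.subgroupOf N).map φ := by
    ext b
    constructor
    · rintro ⟨t, rfl⟩
      exact ⟨⟨t, hTN t.2⟩, t.2, rfl⟩
    · rintro ⟨n, hn, rfl⟩
      exact ⟨⟨n, hn⟩, rfl⟩
  have h2 : φ.ker ≤ T.subgroupOf N := by
    intro n hn
    apply hCT
    rw [Subgroup.mem_centralizer_iff]
    intro s hs
    have h3 : φ n ⟨s, hs⟩ = ⟨s, hs⟩ := by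
      rw [MonoidHom.mem_ker.1 hn]
      rfl
    have h4 : (n : G) * s * (n : G)⁻¹ = s := congrArg Subtype.val h3
    exact (mul_inv_eq_iff_eq_mul.1 h4).symm
  have h3 : (img hTN).index = T.relIndex N * φ.range.index := by
    rw [h1, Subgroup.index_map, sup_eq_left.2 h2]
    rfl
  have h4 := Subgroup.relIndex_mul_index hB
  have h5 : 1 ≤ φ.range.index := Nat.one_le_iff_ne_zero.2 Subgroup.index_ne_zero_of_finite
  rw [← h4, h3]
  calc e ^ 2 * T.relIndex N = e ^ 2 * (T.relIndex N * 1) := by rw [mul_one]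
    _ ≤ _ := Nat.mul_le_mul he (Nat.mul_le_mul_left _ h5)

/-- The source of characters with `e ^ 2` at most the index of `Inn S`. -/
theorem exists_over_sq {S : Type u} [Group S] [Finite S] (hSna : ¬ IsMulCommutative S)
    [IsSimpleGroup S] (α : IrrCharacter S) (B : Subgroup (MulAut S))
    (hB : (MulAut.conj : S →* MulAut S).range ≤ B)
    (hinv : ∀ b ∈ B, ∀ s, (α : S → ℂ) (b s) = (α : S → ℂ) s) :
    ∃ (β : B → ℂ) (e : ℕ), IsIrrCharacter B β ∧ e ≠ 0 ∧
      e ^ 2 ≤ (MulAut.conj : S →* MulAut S).range.relIndex B ∧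
        ∀ s, β ⟨MulAut.conj s, hB ⟨s, rfl⟩⟩ = e * (α : S → ℂ) s := by
  classical
  let j : S →* B := (MulAut.conj : S →* MulAut S).codRestrict B fun s => hB ⟨s, rfl⟩
  have hjinj : Function.Injective j := by
    intro a b hab
    have h1 : (MulAut.conj a : MulAut S) = MulAut.conj b := congrArg Subtype.val hab
    have h2 : b⁻¹ * a = 1 := by
      apply eq_one_of_central hSna
      intro x
      have h3 : a * x * a⁻¹ = b * x * b⁻¹ := DFunLike.congr_fun h1 x
      calc b⁻¹ * a * x = b⁻¹ * (a * x * a⁻¹) * a := by group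
        _ = b⁻¹ * (b * x * b⁻¹) * a := by rw [h3]
        _ = x * (b⁻¹ * a) := by group
    exact (inv_mul_eq_one.1 h2).symm
  have hbj : ∀ (b : B) (s : S), b * j s * b⁻¹ = j ((b : MulAut S) s) := by
    intro b s
    apply Subtype.ext
    ext x
    show (b : MulAut S) (s * ((b : MulAut S)⁻¹ x) * s⁻¹) = _
    rw [map_mul, map_mul, MulAut.apply_inv_self, map_inv]
    rfl
  have hjn : j.range.Normal := by
    refine ⟨?_⟩
    rintro _ ⟨s, rfl⟩ b
    exact ⟨(b : MulAut S) s, (hbj b s).symm⟩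
  obtain ⟨β, e, hβ, he0, he, hβe⟩ := Cfsg.Agent.H685.Acd.exists_over_hom j hjinj hjn α.2 (by
    intro b s s' h
    rw [hbj] at h
    rw [hjinj h]
    exact hinv b b.2 s)
  refine ⟨β, e, hβ, he0, ?_, hβe⟩
  have h1 : j.range = (MulAut.conj : S →* MulAut S).range.subgroupOf B := by
    ext b
    constructor
    · rintro ⟨s, rfl⟩
      exact ⟨s, rfl⟩
    · rintro ⟨s, hs⟩
      exact ⟨s, Subtype.ext hs⟩
  rw [h1] at he
  exact he

end Cfsg.Agent.H404.Avg
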