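import Cfsg.Agent.H404.Avg.CasesDvd
import Cfsg.Agent.H685.AcdMain

/-!
# The reduction of S4831 to simple groups, `p` odd (helper404)
-/

set_option autoImplicit false
set_option linter.unusedSectionVars false

namespace Cfsg.Agent.H404.Avg

open Cfsg
open scoped ComplexConjugate commutatorElement
open Cfsg.Agent.Characters.Core
open Cfsg.Agent.H612.MinNormal (cj)
open Cfsg.Agent.H685.Acd (IMp OutDeg exists_min_normal frattini num_of_min card_hom_quotient)
open Cfsg.Agent.H429.Reg

universe u v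

/-- The subgroup generated by the elements of `p`-power order. -/
def pX (p : ℕ) (G : Type u) [Group G] : Subgroup G :=
  Subgroup.closure {g : G | ∃ k : ℕ, orderOf g = p ^ k}

instance pX_normal (p : ℕ) (G : Type u) [Group G] : (pX p G).Normal := by
  refine ⟨fun n hn g => ?_⟩
  have h1 : pX p G ≤ (pX p G).comap (MulAut.conj g).toMonoidHom := by
    unfold pX
    rw [Subgroup.closure_le]
    rintro x ⟨k, hk⟩
    refine Subgroup.subset_closure ⟨k, ?_⟩
    rw [← hk]
    exact orderOf_injective (MulAut.conj g).toMonoidHom (MulAut.conj g).injective x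
  exact h1 hn

theorem pX_map_le {p : ℕ} (hp : p.Prime) {G : Type u} {H : Type v} [Group G] [Group H] (f : G →* H) :
    (pX p G).map f ≤ pX p H := by
  unfold pX
  rw [MonoidHom.map_closure, Subgroup.closure_le]
  rintro _ ⟨x, ⟨k, hk⟩, rfl⟩
  have h1 : orderOf (f x) ∣ p ^ k := hk ▸ orderOf_map_dvd f x
  obtain ⟨j, -, hj⟩ := (Nat.dvd_prime_pow hp).1 h1
  exact Subgroup.subset_closure ⟨j, hj⟩

/-- Gluing: the image in `G / N` and the intersection with `N`. -/
theorem solvable_glue {G : Type u} [Group G] (X N : Subgroup G) [N.Normal]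
    (h1 : Group.IsSolvable ↥(X.map (QuotientGroup.mk' N))) (h2 : Group.IsSolvable ↥(X ⊓ N)) :
    Group.IsSolvable ↥X := by
  refine Group.isSolvable_of_ker_le_range (Subgroup.inclusion (inf_le_left : X ⊓ N ≤ X))
    ((QuotientGroup.mk' N).subgroupMap X) ?_
  intro x hx
  have h3 : QuotientGroup.mk' N (x : G) = 1 := congrArg Subtype.val (MonoidHom.mem_ker.1 hx)
  have h4 : (x : G) ∈ N := by
    rw [← QuotientGroup.ker_mk' N]
    exact MonoidHom.mem_ker.2 h3
  exact ⟨⟨x, x.2, h4⟩, rfl⟩

theorem num_glue {A B p L D b : ℕ}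
    (hAB : (p = 3 ∧ A = 3 ∧ B = 7) ∨ (5 ≤ p ∧ A = 2 ∧ B = p + 1)) (hL : p ≤ L) (hD : p ≤ D)
    (hb : p ≤ b) : (B - A) * (b * (L + 1) - 2 * L) ≤ (L - 1) * (A * (D * b) - B) := by
  obtain ⟨l, rfl⟩ : ∃ l, L = l + 1 := ⟨L - 1, by rcases hAB with h | h <;> omega⟩
  have h1 : l + 1 - 1 = l := by omega
  rw [h1, Nat.mul_sub, Nat.mul_sub, Nat.sub_le_iff_le_add]
  have h2 : l * B ≤ l * (A * (D * b)) := by
    apply Nat.mul_le_mul_left
    have h3 : p * p ≤ D * b := Nat.mul_le_mul hD hb
    rcases hAB with ⟨rfl, rfl, rfl⟩ | ⟨h5, rfl, rfl⟩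
    · omega
    · nlinarith
  have h4 : l * (A * (D * b)) - l * B + (B - A) * (2 * (l + 1)) =
      l * (A * (D * b)) + (B - A) * (2 * (l + 1)) - l * B := by omega
  rw [h4]
  apply Nat.le_sub_of_add_le
  have hDb : p * b ≤ D * b := Nat.mul_le_mul_right _ hD
  rcases hAB with ⟨rfl, rfl, rfl⟩ | ⟨h5, rfl, rfl⟩
  · have h7 : 7 - 3 = 4 := rfl
    rw [h7]
    have h8 : l * (3 * (3 * b)) ≤ l * (3 * (D * b)) :=
      Nat.mul_le_mul_left _ (Nat.mul_le_mul_left _ hDb)
    have h9 : 2 * b ≤ l * b := Nat.mul_le_mul_right _ (by omega)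
    nlinarith
  · obtain ⟨q, rfl⟩ : ∃ q, p = q + 1 := ⟨p - 1, by omega⟩
    have h7 : q + 1 + 1 - 2 = q := by omega
    rw [h7]
    have h8 : l * (2 * ((q + 1) * b)) ≤ l * (2 * (D * b)) :=
      Nat.mul_le_mul_left _ (Nat.mul_le_mul_left _ hDb)
    have h9 : q * b ≤ l * b := Nat.mul_le_mul_right _ (by omega)
    have h10 : 4 * (q * b) ≤ q * (q * b) := Nat.mul_le_mul_right _ (by omega)
    have h11 : q * (q * b) ≤ l * (q * b) := Nat.mul_le_mul_right _ (by omega)
    nlinarith

/-- The Sylow `p`-subgroups of `G / M` are not normal. -/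
theorem case_not_normal {G : Type u} [Group G] [Finite G] {p : ℕ} [hp : Fact p.Prime] {A B : ℕ}
    (hAB : (p = 3 ∧ A = 3 ∧ B = 7) ∨ (5 ≤ p ∧ A = 2 ∧ B = p + 1)) (hIM : IMp.{u} p)
    (hOut : OutDeg.{u}) {M : Subgroup G} [hM : M.Normal] (hMG : M ≤ commutator G)
    (χ : IrrCharacter G) (hχM : IsIrrCharacter M (fun m : M => (χ : G → ℂ) m))
    (hpχ : p ≤ charDegree (χ : G → ℂ)) (Q : Sylow p (G ⧸ M)) (hQ : ¬ (Q : Subgroup (G ⧸ M)).Normal) :
    (B - A) * Nat.card (G →* ℂˣ) ≤ Wt (fun d => A * d - B) p G := by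
  classical
  have hp2 := hp.out.two_le
  have h3 : 3 ≤ p := by rcases hAB with h | h <;> omega
  -- the least `ℓ`
  have hex : ∃ m : ℕ, 0 < m ∧ IsPrimePow (m * p + 1) := by
    have hcop : Nat.Coprime 2 p := by
      rw [Nat.coprime_primes Nat.prime_two hp.out]
      omega
    have h1 : p ∣ 2 ^ (p - 1) - 1 := by
      have h2 := Nat.ModEq.pow_totient hcop
      rw [Nat.totient_prime hp.out] at h2
      exact (Nat.modEq_iff_dvd' Nat.one_le_two_pow).1 h2.symm
    obtain ⟨m, hm⟩ := h1
    have h4 : 2 ≤ 2 ^ (p - 1) := by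
      calc 2 = 2 ^ 1 := rfl
        _ ≤ _ := Nat.pow_le_pow_right (by norm_num) (by omega)
    refine ⟨m, ?_, ?_⟩
    · rcases Nat.eq_zero_or_pos m with h0 | h0
      · rw [h0, mul_zero] at hm
        omega
      · exact h0
    · have h5 : m * p + 1 = 2 ^ (p - 1) := by
        rw [mul_comm, ← hm]
        omega
      rw [h5]
      exact Nat.prime_two.isPrimePow.pow (by omega)
  obtain ⟨ℓ, ⟨hℓ, -⟩, hmin⟩ : ∃ ℓ, (0 < ℓ ∧ IsPrimePow (ℓ * p + 1)) ∧
      ∀ m : ℕ, 0 < m → m < ℓ → ¬ IsPrimePow (m * p + 1) :=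
    ⟨Nat.find hex, Nat.find_spec hex, fun m hm hlt h => Nat.find_min hex hlt ⟨hm, h⟩⟩
  set L := ℓ * p with hL
  have hpL : p ≤ L := Nat.le_mul_of_pos_left _ hℓ
  have h1 := Cfsg.Agent.H685.Acd.main (num_of_min hp.out hℓ hmin) hIM hOut (Nat.card (G ⧸ M))
    (G ⧸ M) le_rfl Q hQ
  rw [card_hom_quotient G M hMG, ← hL, W_eq_Wt] at h1
  have h2 := Wt_gallagher (w := fun d => A * d - B) (p := p) (QuotientGroup.mk' M)
    (QuotientGroup.mk'_surjective M) M (fun k hk => (QuotientGroup.eq_one_iff k).2 hk) χ hχM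
  have h4 : Wt (fun d => (B - A) * (d * (L + 1) - 2 * L)) p (G ⧸ M) ≤
      Wt (fun b => (L - 1) * (A * (charDegree (χ : G → ℂ) * b) - B)) p (G ⧸ M) :=
    Wt_mono _ fun d hd0 hpd => num_glue hAB hpL hpχ (Nat.le_of_dvd hd0 hpd)
  rw [Wt_mul, Wt_mul] at h4
  have h5 : 0 < L - 1 := by omega
  refine Nat.le_of_mul_le_mul_left ?_ h5
  calc (L - 1) * ((B - A) * Nat.card (G →* ℂˣ)) = (B - A) * ((L - 1) * Nat.card (G →* ℂˣ)) := by
        ring
    _ ≤ (B - A) * Wt (fun d => d * (L + 1) - 2 * L) p (G ⧸ M) := Nat.mul_le_mul_left _ h1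
    _ ≤ (L - 1) * Wt (fun b => A * (charDegree (χ : G → ℂ) * b) - B) p (G ⧸ M) := h4
    _ ≤ _ := Nat.mul_le_mul_left _ h2

/-- The facts on simple groups used for the prime `p`. -/
structure Inp (p : ℕ) : Prop where
  im : IMp.{u} p
  ol : ∀ (S : Type u) [Group S] [Finite S] [IsSimpleGroup S], ¬ IsMulCommutative S →
    Cfsg.Agent.H954.OutDeg.OL S
  ol0 : ∀ (S : Type) [Group S] [Finite S] [IsSimpleGroup S], ¬ IsMulCommutative S →
    Cfsg.Agent.H954.OutDeg.OL S
  out : OutDeg.{u}
  ext : Cfsg.Agent.H671.H5.FactExt.{0}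
  good : 5 ≤ p → ∀ (S : Type u) [Group S] [Finite S] [IsSimpleGroup S], ¬ IsMulCommutative S →
    p ∣ Nat.card S → Good p S

theorem step {p : ℕ} [hp : Fact p.Prime] {A B : ℕ}
    (hAB : (p = 3 ∧ A = 3 ∧ B = 7) ∨ (5 ≤ p ∧ A = 2 ∧ B = p + 1)) (hI : Inp.{u} p)
    {G : Type u} [Group G] [Finite G] (hpG : p ∣ Nat.card G) {M : Subgroup G} [hM : M.Normal]
    (hM0 : M ≠ ⊥) (hMG : M ≤ commutator G)
    (hmin : ∀ K : Subgroup G, K.Normal → K ≤ M → K = ⊥ ∨ K = M)
    (hna : ¬ ∀ a ∈ M, ∀ b ∈ M, a * b = b * a) (hC : Subgroup.centralizer (M : Set G) = ⊥) :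
    (B - A) * Nat.card (G →* ℂˣ) ≤ Wt (fun d => A * d - B) p G := by
  classical
  have h3 : 3 ≤ p := by rcases hAB with h | h <;> omega
  have hna' : ¬ IsMulCommutative M := by
    intro h
    apply hna
    intro a ha b hb
    exact congrArg Subtype.val (h.is_comm.comm (⟨a, ha⟩ : M) ⟨b, hb⟩)
  obtain ⟨S, hSM, hMN, hsimple, hSna, hMS, hcj⟩ :=
    Cfsg.Agent.H612.MinNormal.exists_factor M hM0 hmin hna
  obtain ⟨T, iT, iT', k, hk, hT, ⟨e⟩⟩ := Cfsg.Agent.H671.Frame.minNormal_pi hM hM0 hmin hna'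
  have i₁ : Fin k := ⟨0, hk⟩
  have hTf : Finite T := by
    have h1 : Finite (Fin k → T) := Finite.of_equiv M e.toEquiv
    exact Finite.of_injective (fun (t : T) (_ : Fin k) => t) fun a b h => congrFun h i₁
  obtain ⟨i, hi⟩ := factor_coord hSM hMN hT e
  obtain ⟨E⟩ := factor_equiv e hSM hi
  by_cases hpM : p ∣ Nat.card M
  · -- `p` divides `|S|`
    have hpS : p ∣ Nat.card S := by
      rw [Nat.card_congr e.toEquiv, Nat.card_fun, Nat.card_eq_fintype_card (α := Fin k),
        Fintype.card_fin, ← Nat.card_congr E.toEquiv] at hpM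
      exact hp.out.dvd_of_dvd_pow hpM
    rcases hAB with ⟨rfl, rfl, rfl⟩ | ⟨h5, rfl, rfl⟩
    · exact case_three hI.ol hMG hSM hSna hMS hcj (hI.im S hSna hpS)
    · exact case_good hp.out h3 hMG hSM hSna hMS hcj (hI.good h5 S hSna hpS)
  · have hpS : ¬ p ∣ Nat.card S := fun h => hpM (h.trans (Subgroup.card_dvd_of_le hSM))
    by_cases hq : ∀ Q : Sylow p (G ⧸ M), (Q : Subgroup (G ⧸ M)).Normal
    · obtain ⟨P⟩ : Nonempty (Sylow p G) := inferInstance
      have hF := frattini P M hq
      by_cases hmv : ∃ x ∈ P, ∃ j, gp hT e x j ≠ j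
      · obtain ⟨x, hx, j, hj⟩ := hmv
        have hpk := dvd_of_moves hT e hmin P hF hx hj
        obtain ⟨α, hα, hext⟩ := hI.ext T hT
        have hpk' := Nat.le_of_dvd hk hpk
        obtain ⟨D, Q, hD, hcount⟩ := Cfsg.Agent.H588.Acd.case_move hmin hMG hT (by omega) e hα hext
        refine bound_of_count (t := k) (e := 1) (d := D) (Dvd.dvd.mul_right hpk _) Q ?_
          (num_move hAB hpk (by omega) hD)
        rw [one_pow, mul_one, one_mul]
        exact hcount
      · push Not at hmv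
        obtain ⟨t, e', d, Q, hpt, ht, he, hed, hcount⟩ := case_fix hI.ol P hMG hmin hC hpG hF hSM
          hSna hMS hcj hpS (fun x hx g => by
            apply mem_normalizer_of_fix hT e hSM hi
            have h1 : gp hT e x = 1 := Equiv.ext (hmv x hx)
            rw [map_mul, map_mul, h1, mul_one, map_inv, mul_inv_cancel]
            rfl)
        exact bound_of_count (Dvd.dvd.mul_right hpt _) Q hcount (num_fix hAB hpt ht he hed)
    · push Not at hq
      obtain ⟨Q, hQ⟩ := hq
      obtain ⟨χ, hχM, hpχ⟩ := Cfsg.Agent.H588.Acd.ext_all hI.ext hI.ol0 M hM0 hmin hna' hC hp.out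
        hpM hpG
      exact case_not_normal hAB hI.im hI.out hMG χ hχM hpχ Q hQ

/-- **The main theorem, `p` odd.** -/
theorem odd_main {p : ℕ} [hp : Fact p.Prime] {A B : ℕ}
    (hAB : (p = 3 ∧ A = 3 ∧ B = 7) ∨ (5 ≤ p ∧ A = 2 ∧ B = p + 1)) (hI : Inp.{u} p) :
    ∀ (n : ℕ) (G : Type u) [Group G] [Finite G], Nat.card G ≤ n →
      ¬ Group.IsSolvable ↥(pX p G) →
      (B - A) * Nat.card (G →* ℂˣ) ≤ Wt (fun d => A * d - B) p G := by
  intro n
  induction n with
  | zero =>
    intro G _ _ hn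
    exact absurd hn (by have := Nat.card_pos (α := G); omega)
  | succ n ih =>
    intro G _ _ hn hX
    by_cases hN : ∃ N : Subgroup G, ∃ _ : N.Normal, N ≠ ⊥ ∧ ¬ Group.IsSolvable ↥(pX p (G ⧸ N))
    · obtain ⟨N, hNn, hN0, hNX⟩ := hN
      have hlt : Nat.card (G ⧸ N) ≤ n := by
        have h1 := Subgroup.card_mul_index N
        have h2 : 1 < Nat.card N := by
          rcases Nat.lt_or_ge 1 (Nat.card N) with h | h
          · exact h
          · exact absurd (Subgroup.card_eq_one.1 (le_antisymm h Nat.card_pos)) hN0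
        have h3 : 0 < N.index := Nat.pos_of_ne_zero Subgroup.index_ne_zero_of_finite
        rw [← Subgroup.index_eq_card]
        nlinarith
      have h1 := ih (G ⧸ N) hlt hNX
      have h2 := Wt_scale (w := fun d => A * d - B) (p := p) (QuotientGroup.mk' N)
        (QuotientGroup.mk'_surjective N)
      have hfin := Cfsg.Agent.H685.Acd.finite_hom (G ⧸ N)
      have h3 : 0 < Nat.card (G ⧸ N →* ℂˣ) := Nat.card_pos
      refine Nat.le_of_mul_le_mul_left ?_ h3
      calc Nat.card (G ⧸ N →* ℂˣ) * ((B - A) * Nat.card (G →* ℂˣ))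
          = Nat.card (G →* ℂˣ) * ((B - A) * Nat.card (G ⧸ N →* ℂˣ)) := by ring
        _ ≤ Nat.card (G →* ℂˣ) * Wt (fun d => A * d - B) p (G ⧸ N) := Nat.mul_le_mul_left _ h1
        _ ≤ _ := h2
    · push Not at hN
      have hsol : ∀ (N : Subgroup G) [N.Normal], N ≠ ⊥ →
          Group.IsSolvable ↥((pX p G).map (QuotientGroup.mk' N)) := by
        intro N hNn hN0
        have h1 : Group.IsSolvable ↥(pX p (G ⧸ N)) := by
          by_contra h
          exact h (hN N hNn hN0)
        exact Group.isSolvable_of_isSolvable_injective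
          (Subgroup.inclusion_injective (pX_map_le hp.out (QuotientGroup.mk' N)))
      have hX0 : pX p G ≠ ⊥ := by
        intro h
        apply hX
        rw [h]
        infer_instance
      obtain ⟨M, hM, hM0, hMX, hmin⟩ := exists_min_normal (pX p G) hX0
      have hMns : ¬ Group.IsSolvable ↥M := by
        intro h
        apply hX
        refine solvable_glue (pX p G) M (hsol M hM0) ?_
        exact Group.isSolvable_of_isSolvable_injective
          (Subgroup.inclusion_injective (inf_le_right : pX p G ⊓ M ≤ M))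
      have hna : ¬ ∀ a ∈ M, ∀ b ∈ M, a * b = b * a := by
        intro h
        apply hMns
        have h1 : IsMulCommutative M := ⟨⟨fun a b => Subtype.ext (h a a.2 b b.2)⟩⟩
        exact Group.isSolvable_of_comm fun a b => h1.is_comm.comm a b
      have hMM : ⁅M, M⁆ = M := by
        rcases hmin ⁅M, M⁆ inferInstance (Subgroup.commutator_le_left M M) with h | h
        · exfalso
          apply hna
          intro a ha b hb
          have h1 : ⁅a, b⁆ ∈ ⁅M, M⁆ := Subgroup.commutator_mem_commutator ha hb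
          rw [h, Subgroup.mem_bot, commutatorElement_eq_one_iff_mul_comm] at h1
          exact h1
        · exact h
      have hMG : M ≤ commutator G := by
        rw [← hMM]
        exact Subgroup.commutator_mono le_top le_top
      have hC : Subgroup.centralizer (M : Set G) = ⊥ := by
        by_contra hC0
        apply hMns
        have hMC : M ⊓ Subgroup.centralizer (M : Set G) = ⊥ := by
          rcases hmin (M ⊓ Subgroup.centralizer (M : Set G)) inferInstance inf_le_left with h | h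
          · exact h
          · exfalso
            apply hna
            intro a ha b hb
            have h1 : a ∈ Subgroup.centralizer (M : Set G) := by
              rw [← h] at ha
              exact ha.2
            exact (Subgroup.mem_centralizer_iff.1 h1 b hb).symm
        have h1 : Group.IsSolvable ↥(M.map (QuotientGroup.mk' (Subgroup.centralizer (M : Set G)))) := by
          have h2 := hsol (Subgroup.centralizer (M : Set G)) hC0
          exact Group.isSolvable_of_isSolvable_injective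
            (Subgroup.inclusion_injective (Subgroup.map_mono (f := QuotientGroup.mk'
              (Subgroup.centralizer (M : Set G))) hMX))
        refine solvable_glue M (Subgroup.centralizer (M : Set G)) h1 ?_
        rw [hMC]
        infer_instance
      have hpG : p ∣ Nat.card G := by
        by_contra hpG
        apply hX0
        rw [eq_bot_iff]
        unfold pX
        rw [Subgroup.closure_le]
        rintro x ⟨k, hk⟩
        rw [SetLike.mem_coe, Subgroup.mem_bot, ← orderOf_eq_one_iff, hk]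
        rcases Nat.eq_zero_or_pos k with h0 | h0
        · rw [h0, pow_zero]
        · exfalso
          apply hpG
          have h1 : p ^ k ∣ Nat.card G := hk ▸ orderOf_dvd_natCard x
          exact (dvd_pow_self p h0.ne').trans h1
      exact step hAB hI hpG hM0 hMG hmin hna hC

end Cfsg.Agent.H404.Avg
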