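import Cfsg.Agent.H685.AcdMain
import Cfsg.Agent.H681.DegBasic
import Cfsg.Agent.H748.PalfyClifford

/-!
# Weighted sums over the irreducible characters of degree divisible by `p` (helper404, for S4831)

`Wt w p G` : the sum of `w (χ 1)` over the irreducible characters of degree divisible by `p`.
-/

set_option autoImplicit false
set_option linter.unusedSectionVars false

namespace Cfsg.Agent.H404.Avg

open Cfsg
open scoped ComplexConjugate commutatorElement
open Cfsg.Agent.Characters.Core
open Cfsg.Agent.H685.Acd (charDegree_comp finite_hom card_le_of_fiber)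

universe u v

/-- The sum over the irreducible characters of degree `d` divisible by `p` of `w d`. -/
noncomputable def Wt (w : ℕ → ℕ) (p : ℕ) (G : Type u) [Group G] : ℕ :=
  ∑ᶠ χ : {χ : IrrCharacter G // p ∣ charDegree (χ : G → ℂ)}, w (charDegree (χ.1 : G → ℂ))

theorem Wt_eq (w : ℕ → ℕ) (p : ℕ) (G : Type u) [Group G] [Fintype (IrrCharacter G)]
    [DecidablePred fun χ : IrrCharacter G => p ∣ charDegree (χ : G → ℂ)] :
    Wt w p G = ∑ χ ∈ Finset.univ.filter (fun χ : IrrCharacter G => p ∣ charDegree (χ : G → ℂ)),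
      w (charDegree (χ : G → ℂ)) := by
  unfold Wt
  rw [finsum_eq_sum_of_fintype]
  rw [← Finset.sum_subtype_eq_sum_filter, Finset.subtype_univ]

theorem W_eq_Wt (p L : ℕ) (G : Type u) [Group G] :
    Cfsg.Agent.H685.Acd.W p L G = Wt (fun d => d * (L + 1) - 2 * L) p G := rfl

theorem Wt_mono {w w' : ℕ → ℕ} {p : ℕ} (G : Type u) [Group G] [Finite G]
    (h : ∀ d, 0 < d → p ∣ d → w d ≤ w' d) : Wt w p G ≤ Wt w' p G := by
  classical
  have hfG : Finite (IrrCharacter G) := finite_irr
  have := Fintype.ofFinite (IrrCharacter G)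
  rw [Wt_eq, Wt_eq]
  exact Finset.sum_le_sum fun χ hχ => h _ (Cfsg.Agent.Blocks.Basic.charDegree_pos χ.2)
    (Finset.mem_filter.1 hχ).2

theorem Wt_mul (w : ℕ → ℕ) (c p : ℕ) (G : Type u) [Group G] [Finite G] :
    Wt (fun d => c * w d) p G = c * Wt w p G := by
  classical
  have hfG : Finite (IrrCharacter G) := finite_irr
  have := Fintype.ofFinite (IrrCharacter G)
  rw [Wt_eq, Wt_eq, Finset.mul_sum]

/-- A lower bound from a set of characters of one degree. -/
theorem card_mul_le {w : ℕ → ℕ} {p d : ℕ} {G : Type u} [Group G] [Finite G] (hd : p ∣ d)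
    (Q : IrrCharacter G → Prop) :
    Nat.card {χ : IrrCharacter G // charDegree (χ : G → ℂ) = d ∧ Q χ} * w d ≤ Wt w p G := by
  classical
  have hfG : Finite (IrrCharacter G) := finite_irr
  have := Fintype.ofFinite (IrrCharacter G)
  rw [Wt_eq, Nat.card_eq_fintype_card, Fintype.card_subtype]
  calc (Finset.univ.filter fun χ : IrrCharacter G => charDegree (χ : G → ℂ) = d ∧ Q χ).card * w d
      = ∑ χ ∈ (Finset.univ.filter fun χ : IrrCharacter G => charDegree (χ : G → ℂ) = d ∧ Q χ),
        w (charDegree (χ : G → ℂ)) := by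
        rw [Finset.sum_congr rfl (g := fun _ => w d)]
        · rw [Finset.sum_const, smul_eq_mul]
        · intro χ hχ
          rw [(Finset.mem_filter.1 hχ).2.1]
    _ ≤ _ := by
        refine Finset.sum_le_sum_of_subset ?_
        intro χ hχ
        rw [Finset.mem_filter] at hχ ⊢
        exact ⟨hχ.1, hχ.2.1.symm ▸ hd⟩

/-- Injective maps between the irreducible characters. -/
theorem Wt_le_of_injective {w w' : ℕ → ℕ} {p : ℕ} {G : Type u} {H : Type v} [Group G] [Group H]
    [Finite G] [Finite H] (i : IrrCharacter H → IrrCharacter G) (hi : Function.Injective i)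
    (hw : ∀ χ : IrrCharacter H, p ∣ charDegree (χ : H → ℂ) → p ∣ charDegree (i χ : G → ℂ) ∧
      w' (charDegree (χ : H → ℂ)) ≤ w (charDegree (i χ : G → ℂ))) : Wt w' p H ≤ Wt w p G := by
  classical
  have hfG : Finite (IrrCharacter G) := finite_irr
  have := Fintype.ofFinite (IrrCharacter G)
  have hfH : Finite (IrrCharacter H) := finite_irr
  have := Fintype.ofFinite (IrrCharacter H)
  rw [Wt_eq, Wt_eq]
  calc ∑ χ ∈ Finset.univ.filter (fun χ : IrrCharacter H => p ∣ charDegree (χ : H → ℂ)),
      w' (charDegree (χ : H → ℂ))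
      ≤ ∑ χ ∈ Finset.univ.filter (fun χ : IrrCharacter H => p ∣ charDegree (χ : H → ℂ)),
        w (charDegree (i χ : G → ℂ)) :=
        Finset.sum_le_sum fun χ hχ => (hw χ (Finset.mem_filter.1 hχ).2).2
    _ = ∑ χ ∈ (Finset.univ.filter (fun χ : IrrCharacter H => p ∣ charDegree (χ : H → ℂ))).map
        ⟨i, hi⟩, w (charDegree (χ : G → ℂ)) := by
        rw [Finset.sum_map]
        rfl
    _ ≤ _ := by
        refine Finset.sum_le_sum_of_subset ?_
        intro χ hχ
        rw [Finset.mem_map] at hχ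
        obtain ⟨ξ, hξ, rfl⟩ := hχ
        rw [Finset.mem_filter]
        exact ⟨Finset.mem_univ _, (hw ξ (Finset.mem_filter.1 hξ).2).1⟩

theorem charDegree_hom_mul {G : Type u} [Group G] (f : G →* ℂˣ) (χ : G → ℂ) :
    charDegree (fun g => (f g : ℂ) * χ g) = charDegree χ := by
  show ⌊((f 1 : ℂˣ) * χ 1 : ℂ).re⌋₊ = ⌊(χ 1).re⌋₊
  rw [map_one, Units.val_one, one_mul]

/-- **Scaling**: the weights of `G` and of a homomorphic image `H`, per linear character. -/
theorem Wt_scale {w : ℕ → ℕ} {p : ℕ} {G : Type u} {H : Type v} [Group G] [Group H] [Finite G]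
    (f : G →* H) (hf : Function.Surjective f) :
    Nat.card (G →* ℂˣ) * Wt w p H ≤ Nat.card (H →* ℂˣ) * Wt w p G := by
  classical
  have : Finite H := Finite.of_surjective f hf
  have hfG : Finite (IrrCharacter G) := finite_irr
  have := Fintype.ofFinite (IrrCharacter G)
  have hfH : Finite (IrrCharacter H) := finite_irr
  have := Fintype.ofFinite (IrrCharacter H)
  have hlG := finite_hom G
  have := Fintype.ofFinite (G →* ℂˣ)
  have hlH := finite_hom H
  rw [Wt_eq, Wt_eq]
  let F : (G →* ℂˣ) × IrrCharacter H → IrrCharacter G := fun x =>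
    ⟨fun g => (x.1 g : ℂ) * (x.2 : H → ℂ) (f g),
      Cfsg.Agent.OddOrderCharacters.InertiaAbelian.isIrr_mul_hom _ (isIrr_comp f hf x.2.2)⟩
  have hdeg : ∀ x, charDegree (F x : G → ℂ) = charDegree (x.2 : H → ℂ) := fun x =>
    (charDegree_hom_mul x.1 ((x.2 : H → ℂ) ∘ f)).trans (charDegree_comp f _)
  -- the fibres
  have hfib : ∀ χ : IrrCharacter G, (Finset.univ.filter fun x => F x = χ).card ≤
      Nat.card (H →* ℂˣ) := by
    intro χ
    rcases (Finset.univ.filter fun x => F x = χ).eq_empty_or_nonempty with h | ⟨x₀, hx₀⟩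
    · rw [h, Finset.card_empty]
      exact Nat.zero_le _
    · rw [← Fintype.card_subtype, ← Nat.card_eq_fintype_card]
      -- the first components agree on the kernel of `f`
      have hker : ∀ (x y : (G →* ℂˣ) × IrrCharacter H), F x = χ → F y = χ → ∀ g, f g = 1 →
          x.1 g = y.1 g := by
        intro x y hx hy g hg
        have h1 : ∀ z : (G →* ℂˣ) × IrrCharacter H, F z = χ →
            (χ : G → ℂ) g = (z.1 g : ℂ) * (χ : G → ℂ) 1 := by
          rintro z rfl
          show (z.1 g : ℂ) * (z.2 : H → ℂ) (f g) = (z.1 g : ℂ) * ((z.1 1 : ℂ) *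
            (z.2 : H → ℂ) (f 1))
          rw [hg, map_one, map_one, Units.val_one, one_mul]
        have h2 := (h1 x hx).symm.trans (h1 y hy)
        exact Units.ext (mul_right_cancel₀ (isIrr_apply_one_ne_zero χ.2) h2)
      have hF₀ : F x₀ = χ := (Finset.mem_filter.1 hx₀).2
      -- `x ↦ x.1 * x₀.1⁻¹` factors through `H`
      refine Nat.card_le_card_of_injective (fun x : {x // F x = χ} =>
        (f.liftOfSurjective hf ⟨x.1.1 * x₀.1⁻¹, fun g hg => ?_⟩ : H →* ℂˣ)) ?_
      · rw [MonoidHom.mem_ker] at hg ⊢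
        rw [MonoidHom.mul_apply, MonoidHom.inv_apply, hker x.1 x₀ x.2 hF₀ g hg, mul_inv_cancel]
      · intro x y hxy
        have h1 : x.1.1 = y.1.1 := by
          ext g
          have h2 := DFunLike.congr_fun hxy (f g)
          simp only [MonoidHom.liftOfSurjective] at h2
          rw [MonoidHom.liftOfRightInverse_comp_apply, MonoidHom.liftOfRightInverse_comp_apply]
            at h2
          have h3 : x.1.1 g = y.1.1 g := by
            have h4 : (x.1.1 * x₀.1⁻¹) g = (y.1.1 * x₀.1⁻¹) g := h2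
            rw [MonoidHom.mul_apply, MonoidHom.mul_apply] at h4
            exact mul_right_cancel h4
          rw [h3]
        apply Subtype.ext
        refine Prod.ext h1 (Subtype.ext ?_)
        funext z
        obtain ⟨g, rfl⟩ := hf z
        have h2 : F x.1 = F y.1 := x.2.trans y.2.symm
        have h3 : (x.1.1 g : ℂ) * (x.1.2 : H → ℂ) (f g) = (y.1.1 g : ℂ) * (y.1.2 : H → ℂ) (f g) :=
          congrFun (congrArg Subtype.val h2) g
        rw [h1] at h3
        exact mul_left_cancel₀ (Units.ne_zero _) h3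
  have hsum : Nat.card (G →* ℂˣ) * ∑ χ ∈ Finset.univ.filter
      (fun χ : IrrCharacter H => p ∣ charDegree (χ : H → ℂ)), w (charDegree (χ : H → ℂ)) =
      ∑ χ ∈ Finset.univ.filter (fun χ : IrrCharacter G => p ∣ charDegree (χ : G → ℂ)),
        (Finset.univ.filter fun x => F x = χ).card * w (charDegree (χ : G → ℂ)) := by
    have h1 : ∀ χ : IrrCharacter G, (Finset.univ.filter fun x => F x = χ).card *
        w (charDegree (χ : G → ℂ)) = ∑ x ∈ Finset.univ.filter (fun x => F x = χ),
          w (charDegree (x.2 : H → ℂ)) := by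
      intro χ
      rw [Finset.sum_congr rfl (g := fun _ => w (charDegree (χ : G → ℂ)))]
      · rw [Finset.sum_const, smul_eq_mul]
      · intro x hx
        rw [← hdeg, (Finset.mem_filter.1 hx).2]
    rw [Finset.sum_congr rfl fun χ _ => h1 χ]
    rw [Nat.card_eq_fintype_card, ← Finset.card_univ, ← smul_eq_mul, ← Finset.sum_const]
    rw [← Finset.sum_product (s := Finset.univ) (f := fun x : (G →* ℂˣ) × IrrCharacter H =>
      w (charDegree (x.2 : H → ℂ)))]
    rw [← Finset.sum_fiberwise_of_maps_to (g := F) (t := Finset.univ.filter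
      (fun χ : IrrCharacter G => p ∣ charDegree (χ : G → ℂ)))]
    · refine Finset.sum_congr rfl fun χ hχ => Finset.sum_congr ?_ fun _ _ => rfl
      ext x
      rw [Finset.mem_filter, Finset.mem_filter, Finset.mem_product, Finset.mem_filter]
      constructor
      · rintro ⟨-, h⟩
        exact ⟨Finset.mem_univ _, h⟩
      · rintro ⟨-, h⟩
        refine ⟨⟨Finset.mem_univ _, Finset.mem_univ _, ?_⟩, h⟩
        rw [← hdeg, h]
        exact (Finset.mem_filter.1 hχ).2
    · intro x hx
      rw [Finset.mem_filter, hdeg]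
      exact ⟨Finset.mem_univ _, (Finset.mem_filter.1 (Finset.mem_product.1 hx).2).2⟩
  rw [hsum, Finset.mul_sum]
  exact Finset.sum_le_sum fun χ _ => Nat.mul_le_mul_right _ (hfib χ)

/-- **Gallagher**: `χ` irreducible on the normal subgroup `K`, in the kernel of `π : G → Q`. -/
theorem Wt_gallagher {w : ℕ → ℕ} {p : ℕ} {G : Type u} {Q : Type v} [Group G] [Group Q] [Finite G]
    (π : G →* Q) (hπ : Function.Surjective π) (K : Subgroup G) [hK : K.Normal]
    (hKπ : ∀ k ∈ K, π k = 1) (χ : IrrCharacter G)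
    (hχK : IsIrrCharacter K (fun k : K => (χ : G → ℂ) k)) :
    Wt (fun b => w (charDegree (χ : G → ℂ) * b)) p Q ≤ Wt w p G := by
  classical
  have := Fintype.ofFinite G
  have := Fintype.ofFinite K
  have : Finite Q := Finite.of_surjective π hπ
  have hχc : IsClassFunction G (χ : G → ℂ) := isIrr_isClassFunction χ.2
  have hone : ((fun _ => 1) * (fun k : K => (χ : G → ℂ) k) : K → ℂ) =
      fun k : K => (χ : G → ℂ) k := by
    funext k; simp
  have key := S0856.result K (fun _ => 1) (fun k : K => (χ : G → ℂ) k) isIrr_one hχK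
    (fun g n => rfl) (fun g n => hχc n g) (by rw [hone]; exact hχK) χ χ.2 (fun n => rfl)
  have hmem : ∀ β : IrrCharacter Q, ((β : Q → ℂ) ∘ π) ∈ {β : G → ℂ | IsIrrCharacter G β ∧
      classInner (indFun K (fun _ => 1)) β ≠ 0} := by
    intro β
    have hb := Cfsg.Agent.Blocks.Basic.irr_one_eq_charDegree β.2
    refine ⟨isIrr_comp π hπ β.2, ?_⟩
    rw [Cfsg.Agent.CharactersDeep.NormalInd.classInner_indFun K (fun _ => 1) _
      (isIrr_isClassFunction (isIrr_comp π hπ β.2))]
    have h1 : (fun k : K => ((β : Q → ℂ) ∘ π) (k : G)) =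
        (charDegree (β : Q → ℂ) : ℂ) • (fun _ => 1 : K → ℂ) := by
      funext k
      simp [hKπ k k.2, hb]
    rw [h1, classInner_smul_right]
    have h2 : classInner (fun _ => 1 : K → ℂ) (fun _ => 1 : K → ℂ) = 1 :=
      classInner_irr_self isIrr_one
    rw [h2, mul_one]
    simp only [Complex.conj_natCast, ne_eq, Nat.cast_eq_zero]
    exact (Cfsg.Agent.Blocks.Basic.charDegree_pos β.2).ne'
  let i : IrrCharacter Q → IrrCharacter G := fun β => ⟨((β : Q → ℂ) ∘ π) * (χ : G → ℂ),
    (key.mapsTo (hmem β)).1⟩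
  have hdeg : ∀ β, charDegree (i β : G → ℂ) = charDegree (χ : G → ℂ) * charDegree (β : Q → ℂ) := by
    intro β
    apply Cfsg.Agent.Blocks.Basic.charDegree_of_eq
    show (β : Q → ℂ) (π 1) * (χ : G → ℂ) 1 = _
    rw [map_one, Cfsg.Agent.Blocks.Basic.irr_one_eq_charDegree β.2,
      Cfsg.Agent.Blocks.Basic.irr_one_eq_charDegree χ.2, mul_comm]
    push_cast
    rfl
  refine Wt_le_of_injective i ?_ fun β hβ => ?_
  · intro β β' h
    have h1 := key.injOn (hmem β) (hmem β') (congrArg Subtype.val h)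
    apply Subtype.ext
    funext x
    obtain ⟨g, rfl⟩ := hπ x
    exact congrFun h1 g
  · rw [hdeg]
    exact ⟨Dvd.dvd.mul_left hβ _, le_rfl⟩

/-- The hypothesis on the average degree in terms of `Wt`. -/
theorem lt_of_avg {G : Type u} [Group G] [Finite G] {p A B : ℕ} (hp : 2 ≤ p) (hAB : B ≤ A * p)
    (h : A * (∑ᶠ χ : {χ : IrrCharacter G // charDegree (χ : G → ℂ) = 1 ∨
      p ∣ charDegree (χ : G → ℂ)}, charDegree (χ.1 : G → ℂ)) < B *
        Nat.card {χ : IrrCharacter G // charDegree (χ : G → ℂ) = 1 ∨ p ∣ charDegree (χ : G → ℂ)}) :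
    Wt (fun d => A * d - B) p G < (B - A) * Nat.card (G →* ℂˣ) := by
  classical
  have hfG : Finite (IrrCharacter G) := finite_irr
  have := Fintype.ofFinite (IrrCharacter G)
  rw [finsum_eq_sum_of_fintype,
    show (∑ χ : {χ : IrrCharacter G // charDegree (χ : G → ℂ) = 1 ∨ p ∣ charDegree (χ : G → ℂ)},
      charDegree (χ.1 : G → ℂ)) = ∑ χ ∈ Finset.univ.filter (fun χ : IrrCharacter G =>
      charDegree (χ : G → ℂ) = 1 ∨ p ∣ charDegree (χ : G → ℂ)), charDegree (χ : G → ℂ) by
      rw [← Finset.sum_subtype_eq_sum_filter, Finset.subtype_univ],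
    Nat.card_eq_fintype_card, Fintype.card_subtype, Finset.filter_or] at h
  have hdisj : Disjoint (Finset.univ.filter (fun χ : IrrCharacter G => charDegree (χ : G → ℂ) = 1))
      (Finset.univ.filter (fun χ : IrrCharacter G => p ∣ charDegree (χ : G → ℂ))) := by
    rw [Finset.disjoint_left]
    intro χ h1 h2
    rw [Finset.mem_filter] at h1 h2
    rw [h1.2] at h2
    have := Nat.le_of_dvd one_pos h2.2
    omega
  rw [Finset.sum_union hdisj, Finset.card_union_of_disjoint hdisj] at h
  have h1 : ∑ χ ∈ Finset.univ.filter (fun χ : IrrCharacter G => charDegree (χ : G → ℂ) = 1),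
      charDegree (χ : G → ℂ) = Nat.card (G →* ℂˣ) := by
    rw [Finset.sum_congr rfl (g := fun _ => 1) (fun χ hχ => (Finset.mem_filter.1 hχ).2),
      Finset.sum_const, smul_eq_mul, mul_one, ← Cfsg.Agent.H685.Acd.card_linear,
      Nat.card_eq_fintype_card, Fintype.card_subtype]
  have h1' : (Finset.univ.filter (fun χ : IrrCharacter G => charDegree (χ : G → ℂ) = 1)).card =
      Nat.card (G →* ℂˣ) := by
    rw [← Cfsg.Agent.H685.Acd.card_linear, Nat.card_eq_fintype_card, Fintype.card_subtype]
  have h2 : Wt (fun d => A * d - B) p G + B *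
      (Finset.univ.filter (fun χ : IrrCharacter G => p ∣ charDegree (χ : G → ℂ))).card =
      A * ∑ χ ∈ Finset.univ.filter (fun χ : IrrCharacter G => p ∣ charDegree (χ : G → ℂ)),
        charDegree (χ : G → ℂ) := by
    rw [Wt_eq, Finset.mul_sum]
    have h3 : B * (Finset.univ.filter
        (fun χ : IrrCharacter G => p ∣ charDegree (χ : G → ℂ))).card =
        ∑ χ ∈ Finset.univ.filter (fun χ : IrrCharacter G => p ∣ charDegree (χ : G → ℂ)), B := by
      rw [Finset.sum_const, smul_eq_mul, mul_comm]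
    rw [h3, ← Finset.sum_add_distrib]
    refine Finset.sum_congr rfl fun χ hχ => ?_
    have h4 := (Finset.mem_filter.1 hχ).2
    have h5 : 0 < charDegree (χ : G → ℂ) := Cfsg.Agent.Blocks.Basic.charDegree_pos χ.2
    have h7 : B ≤ A * charDegree (χ : G → ℂ) :=
      hAB.trans (Nat.mul_le_mul_left _ (Nat.le_of_dvd h5 h4))
    exact Nat.sub_add_cancel h7
  rw [h1, h1', mul_add, mul_add, ← h2] at h
  have h8 : A * Nat.card (G →* ℂˣ) + Wt (fun d => A * d - B) p G < B * Nat.card (G →* ℂˣ) := by
    omega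
  rw [Nat.sub_mul]
  omega

end Cfsg.Agent.H404.Avg
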